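import Cfsg.Agent.Lib.ExtFieldMax.SpMain

/-!
The normaliser of a self-adjoint extension field is maximal in the symplectic group, dimension at
least four, field of order other than two.
-/

set_option autoImplicit false

namespace Cfsg.Agent.SpFourEven

open Module Submodule Cfsg.Agent.ExtFieldMax
open scoped Matrix MatrixGroups

variable {F : Type*} [Field F] [Fintype F] {m r : ℕ}

theorem spMax_of {L : Type*} [Field L] [Finite L] [Algebra F L] (hr : r.Prime) (hm : 2 ≤ m) (hq : Nat.card F ≠ 2) (hL : finrank F L = r)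
    (ρ : L →ₐ[F] Matrix (Fin m ⊕ Fin m) (Fin m ⊕ Fin m) F)
    (K : Subalgebra F (Matrix (Fin m ⊕ Fin m) (Fin m ⊕ Fin m) F))
    (hρ : ∀ x, x ∈ K ↔ ∃ l, ρ l = x)
    (hsa : ∀ k ∈ K, ∀ u v, FormsLib.spB m F (k *ᵥ u) v = FormsLib.spB m F u (k *ᵥ v))
    (halt : ∀ k ∈ K, ∀ v, FormsLib.spB m F (k *ᵥ v) v = 0) :
    Cfsg.Geo.IsMaximalIn (Cfsg.spGL m F) (Cfsg.Geo.subalgebraNormalizer K ⊓ Cfsg.spGL m F) := by
  classical
  letI : Module L (Fin m ⊕ Fin m → F) :=
    Module.compHom (Fin m ⊕ Fin m → F)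
      ((Matrix.toLinAlgEquiv' (R := F) (n := Fin m ⊕ Fin m)).toAlgHom.toRingHom.comp ρ.toRingHom)
  have hsmul : ∀ (k : L) (x : Fin m ⊕ Fin m → F), k • x = ρ k *ᵥ x := fun k x => rfl
  haveI : IsScalarTower F L (Fin m ⊕ Fin m → F) := ⟨fun c k x => by
    rw [hsmul, hsmul, map_smul, Matrix.smul_mulVec]⟩
  haveI : Module.Finite L (Fin m ⊕ Fin m → F) := Module.Finite.of_finite
  haveI : FiniteDimensional F L := Module.Finite.of_finite
  set B := FormsLib.spB m F with hBdef
  have S : ExtSp L B :=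
    { alt := FormsLib.spB_alt
      nondeg := fun u h => FormsLib.spB_nondeg.2 u h
      adj := fun k x y => by rw [hsmul, hsmul]; exact hsa _ ((hρ _).2 ⟨k, rfl⟩) _ _
      altk := fun k x => by rw [hsmul]; exact halt _ ((hρ _).2 ⟨k, rfl⟩) _ }
  obtain ⟨τ, ω, Lf⟩ := exists_lift (K := L) B
  have hr' : (finrank F L).Prime := by rw [hL]; exact hr
  have hmul : r * finrank L (Fin m ⊕ Fin m → F) = m + m := by
    rw [← hL, Module.finrank_mul_finrank, Module.finrank_fintype_fun_eq_card]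
    simp
  have h22 : finrank L (Fin m ⊕ Fin m → F) = 2 → ¬ (Nat.card F = 2 ∧ finrank F L = 2) := by
    exact fun _ h => hq h.1
  -- semilinear maps normalise
  have hnorm : ∀ g : GL (Fin m ⊕ Fin m) F, (∀ (v : Fin m ⊕ Fin m → F) (c : L), ∃ d : L,
      (g : Matrix (Fin m ⊕ Fin m) (Fin m ⊕ Fin m) F) *ᵥ (c • v) = d • ((g : Matrix (Fin m ⊕ Fin m) (Fin m ⊕ Fin m) F) *ᵥ v)) →
      g ∈ Cfsg.Geo.subalgebraNormalizer K := by
    intro g hg
    have hne : Nonempty (Fin m ⊕ Fin m) := ⟨Sum.inl ⟨0, by omega⟩⟩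
    obtain ⟨i⟩ := hne
    set a : Fin m ⊕ Fin m → F := Pi.single i 1
    have ha : a ≠ 0 := by simp [a]
    have h2dim : 2 ≤ finrank L (Fin m ⊕ Fin m → F) := Lf.two_le_finrank S ha
    have hto : ∀ k ∈ K, (g : Matrix (Fin m ⊕ Fin m) (Fin m ⊕ Fin m) F) * k * ((g⁻¹ : GL (Fin m ⊕ Fin m) F) : Matrix (Fin m ⊕ Fin m) (Fin m ⊕ Fin m) F) ∈ K := by
      intro k hk
      set T := (g : Matrix (Fin m ⊕ Fin m) (Fin m ⊕ Fin m) F) * k *
        ((g⁻¹ : GL (Fin m ⊕ Fin m) F) : Matrix (Fin m ⊕ Fin m) (Fin m ⊕ Fin m) F) with hT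
      have hline : ∀ y, ∃ d : L, T *ᵥ y = d • y := by
        intro y
        obtain ⟨k', hk'⟩ := (hρ k).1 hk
        obtain ⟨d, hd⟩ := hg (((g⁻¹ : GL (Fin m ⊕ Fin m) F) : Matrix (Fin m ⊕ Fin m) (Fin m ⊕ Fin m) F) *ᵥ y) k'
        refine ⟨d, ?_⟩
        rw [hT, ← Matrix.mulVec_mulVec, ← Matrix.mulVec_mulVec]
        rw [hsmul k', hk'] at hd
        rw [hd, TransvMax.mulVec_inv_mulVec]
      have key : ∀ a b, a ≠ 0 → b ∉ span L {a} → ∀ d e : L, T *ᵥ a = d • a → T *ᵥ b = e • b → d = e := by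
        intro a b ha hb d e hd he
        obtain ⟨w, hw⟩ := hline (a + b)
        rw [Matrix.mulVec_add, hd, he, smul_add] at hw
        have h1 : (e - w) • b = (w - d) • a := by
          rw [sub_smul, sub_smul, sub_eq_sub_iff_add_eq_add, add_comm, hw, add_comm]
        have h2 : e - w = 0 := by
          by_contra hne
          exact hb (mem_span_singleton.2 ⟨(e - w)⁻¹ * (w - d), by
            rw [mul_smul, ← h1, smul_smul, inv_mul_cancel₀ hne, one_smul]⟩)
        rw [h2, zero_smul] at h1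
        have h3 : w - d = 0 := (smul_eq_zero.1 h1.symm).resolve_right ha
        rw [← sub_eq_zero.1 h3, sub_eq_zero.1 h2]
      obtain ⟨b, hb⟩ : ∃ b, b ∉ span L {a} := by
        by_contra hall
        push Not at hall
        have := finrank_span_singleton (K := L) ha
        rw [show span L {a} = ⊤ from eq_top_iff.2 fun x _ => hall x, finrank_top] at this
        omega
      obtain ⟨d, hd⟩ := hline a
      obtain ⟨e, he⟩ := hline b
      have hde := key a b ha hb d e hd he
      have hb0 : b ≠ 0 := fun e => hb (by rw [e]; exact zero_mem _)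
      have hall : ∀ y, T *ᵥ y = d • y := by
        intro y
        obtain ⟨f, hf⟩ := hline y
        by_cases hy : y ∈ span L {a}
        · by_cases hy0 : y = 0
          · rw [hy0, Matrix.mulVec_zero, smul_zero]
          have hby : b ∉ span L {y} := fun h => hb ((span_le.2 (by simpa using hy)) h)
          rw [hf, key y b hy0 hby f e hf he, hde]
        · rw [hf, ← key a y ha hy d f hd hf]
      have : T = ρ d := Matrix.ext_iff_mulVec.2 fun y => by rw [hall, hsmul]
      rw [this]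
      exact (hρ _).2 ⟨d, rfl⟩
    intro k
    refine ⟨hto k, fun h => ?_⟩
    let φ : K → K := fun x => ⟨_, hto x x.2⟩
    have hφ : Function.Injective φ := by
      intro x y hxy
      have := congrArg Subtype.val hxy
      simp only [φ, Units.mul_left_inj, Units.mul_right_inj] at this
      exact Subtype.ext this
    obtain ⟨k', hk'⟩ := (Finite.injective_iff_surjective.1 hφ) ⟨_, h⟩
    have := congrArg Subtype.val hk'
    simp only [φ, Units.mul_left_inj, Units.mul_right_inj] at this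
    rw [← this]; exact k'.2
  have hlin : ∀ g : (Fin m ⊕ Fin m → F) ≃ₗ[F] (Fin m ⊕ Fin m → F), (∀ (k : L) x, g (k • x) = k • g x) →
      TransvMax.glOf g ∈ Cfsg.Geo.subalgebraNormalizer K := fun g hg =>
    hnorm _ fun v c => ⟨c, by rw [TransvMax.glOf_mulVec, TransvMax.glOf_mulVec]; exact hg c v⟩
  refine TransvMax.maximal_in_spGL _ inf_le_right ?_ fun M hHM hM hne => ?_
  · -- some transvection is not semilinear
    obtain ⟨c, hc⟩ : ∃ c : L, c ∉ span F {(1 : L)} := by
      by_contra hall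
      push Not at hall
      have := finrank_span_singleton (K := F) (one_ne_zero (α := L))
      rw [show span F {(1 : L)} = ⊤ from eq_top_iff.2 fun x _ => hall x, finrank_top, hL] at this
      exact hr.one_lt.ne' this
    set v : Fin m ⊕ Fin m → F := Pi.single (Sum.inl ⟨0, by omega⟩) 1
    have hv : v ≠ 0 := by simp [v]
    obtain ⟨x, hx⟩ := Lf.exists_partner S hv
    -- choose `w` with `B w v = 1` and `B (c • w) v = 0`
    obtain ⟨g', hg'1, hg'c⟩ : ∃ g' : L →ₗ[F] F, g' 1 = 1 ∧ g' c = 0 := by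
      obtain ⟨g', hg', h⟩ := exists_dual_one (F := F) (F ∙ c) (y := (1 : L)) (fun h => by
        obtain ⟨t, ht⟩ := mem_span_singleton.1 h
        have ht0 : t ≠ 0 := fun e => one_ne_zero (α := L) (by rw [← ht, e, zero_smul])
        exact hc (mem_span_singleton.2 ⟨t⁻¹, by rw [← ht, smul_smul, inv_mul_cancel₀ ht0, one_smul]⟩))
      exact ⟨g', h, hg' c (mem_span_singleton_self c)⟩
    obtain ⟨d, hd⟩ := dual_mul_surjective Lf.τne g'
    obtain ⟨w, hwdef⟩ : ∃ w, w = (d * (ω v x)⁻¹) • x := ⟨_, rfl⟩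
    have hBw : ∀ k : L, B (k • w) v = g' k := fun k => by
      rw [hwdef, ← Lf.spec_mul, map_smul, smul_eq_mul, inv_mul_cancel_right₀ hx, hd]
    refine ⟨FormsLib.tau FormsLib.spB_alt v 1, FormsLib.tau_mem _ v 1, fun hmem => ?_⟩
    obtain ⟨k', hk'⟩ := (hρ _).1 ((hmem.1 (ρ c)).1 ((hρ _).2 ⟨c, rfl⟩))
    set t := FormsLib.tau (FormsLib.spB_alt (m := m) (F := F)) v 1 with ht
    have h1 : t (c • w) = k' • t w := by
      rw [← TransvMax.glOf_mulVec t, ← TransvMax.glOf_mulVec t, hsmul c, hsmul k', hk', ← Matrix.mulVec_mulVec,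
        ← Matrix.mulVec_mulVec, TransvMax.inv_mulVec_mulVec]
    rw [ht, FormsLib.tau_apply, FormsLib.tau_apply, one_mul, one_mul, hBw, hg'c, zero_smul, add_zero,
      ← one_smul L w, hBw, hg'1, one_smul, one_smul, smul_add] at h1
    -- pair against `v`
    have h2 : (c - k') • w = k' • v := by rw [sub_smul]; rw [h1]; simp
    have h3 := congrArg (ω v) h2
    rw [map_smul, map_smul, Lf.self S, smul_zero, smul_eq_mul, mul_eq_zero] at h3
    rcases h3 with h3 | h3
    · rw [h3, zero_smul, eq_comm, smul_eq_zero] at h2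
      rcases h2 with h2 | h2
      · exact hc (by rw [sub_eq_zero.1 h3, h2]; exact zero_mem _)
      · exact hv h2
    · have := hBw 1
      rw [one_smul, hg'1, ← Lf.spec, h3, map_zero] at this
      exact zero_ne_one this
  · have hR : HasRoot ω M := by
      intro l u
      have hv : (l • ω u) u = 0 := by rw [LinearMap.smul_apply, Lf.self S, smul_zero]
      refine ⟨(LinearEquiv.transvection hv).restrictScalars F, hHM ⟨hlin _ fun k x => ?_, ?_⟩, fun x => rfl⟩
      · exact (LinearEquiv.transvection hv).map_smul k x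
      · refine TransvMax.glOf_mem_spGL.2 fun x y => ?_
        show B (x + (l • ω u) x • u) (y + (l • ω u) y • u) = B x y
        simp only [map_add, LinearMap.add_apply, LinearMap.smul_apply, smul_eq_mul]
        have h1 : ∀ (a : L) z, B z (a • u) = τ (a * ω u z) := fun a z => by rw [Lf.spec_mul, S.adj]
        have h2 : ∀ (a : L) z, B (a • u) z = -τ (a * ω u z) := fun a z => by
          rw [← h1]
          have h := S.alt (a • u + z)
          simp only [map_add, LinearMap.add_apply, S.alt, zero_add, add_zero] at h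
          linear_combination h
        rw [h1 _ x, h2 _ y, h2 _ ((l * ω u y) • u), map_smul (ω u), Lf.self S, smul_zero, mul_zero, map_zero,
          show l * ω u y * ω u x = l * ω u x * ω u y by ring]
        ring
    have hne' : ∃ e ∈ M, ∃ (v : Fin m ⊕ Fin m → F) (c : L), ∀ d : L, e (c • v) ≠ d • e v := by
      obtain ⟨g, hgM, hgH⟩ := hne
      refine ⟨g, hgM, ?_⟩
      by_contra hall
      push Not at hall
      exact hgH ⟨hnorm _ fun v c => by
        obtain ⟨d, hd⟩ := hall v c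
        exact ⟨d, by rw [TransvMax.glOf_mulVec, TransvMax.glOf_mulVec]; exact hd⟩, TransvMax.glOf_mem_spGL.2 (hM hgM)⟩
    have hall := all_trD hr' h22 Lf S (fun e he => hM he) hR hne'
    refine (Subgroup.closure_le _).2 ?_
    rintro g ⟨w, c, rfl⟩
    obtain ⟨e, he, hex⟩ := hall w c
    have : FormsLib.tau FormsLib.spB_alt w c = e := LinearEquiv.ext fun x => by
      rw [FormsLib.tau_apply, hex]; rfl
    rw [this]
    exact he

theorem spMax (hr : r.Prime) (hm : 2 ≤ m) (hq : Nat.card F ≠ 2) (K : Subalgebra F (Matrix (Fin m ⊕ Fin m) (Fin m ⊕ Fin m) F))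
    (hK : Cfsg.Geo.IsFieldSubalgebra r K)
    (hsa : ∀ k ∈ K, ∀ u v, FormsLib.spB m F (k *ᵥ u) v = FormsLib.spB m F u (k *ᵥ v))
    (halt : ∀ k ∈ K, ∀ v, FormsLib.spB m F (k *ᵥ v) v = 0) :
    Cfsg.Geo.IsMaximalIn (Cfsg.spGL m F) (Cfsg.Geo.subalgebraNormalizer K ⊓ Cfsg.spGL m F) := by
  classical
  haveI : Nonempty (Fin m ⊕ Fin m) := ⟨Sum.inl ⟨0, by omega⟩⟩
  letI : CommRing K := { (inferInstance : Ring K) with mul_comm := fun a b => Subtype.ext (hK.comm _ a.2 _ b.2) }
  haveI : Nontrivial K := ⟨⟨0, 1, fun h => by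
    have := congrArg (fun x : K => (x : Matrix (Fin m ⊕ Fin m) (Fin m ⊕ Fin m) F)) h
    simp at this⟩⟩
  haveI : NoZeroDivisors K := ⟨fun {a b} hab => by
    by_cases ha : a = 0
    · exact Or.inl ha
    · obtain ⟨y, hy, hay⟩ := hK.inv _ a.2 (fun h => ha (Subtype.ext h))
      right
      have : (⟨y, hy⟩ : K) * a = 1 := by rw [mul_comm]; exact Subtype.ext hay
      calc b = (⟨y, hy⟩ : K) * a * b := by rw [this, one_mul]
        _ = 0 := by rw [mul_assoc, hab, mul_zero]⟩
  haveI : IsDomain K := NoZeroDivisors.to_isDomain K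
  letI : Fintype K := Fintype.ofFinite K
  letI : Field K := Fintype.fieldOfDomain K
  exact spMax_of (L := K) hr hm hq hK.finrank_eq K.val K
    (fun x => ⟨fun h => ⟨⟨x, h⟩, rfl⟩, by rintro ⟨l, rfl⟩; exact l.2⟩) hsa halt

end Cfsg.Agent.SpFourEven
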