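import Cfsg.Agent.Lib.TransvMax.JordanSplit
import Cfsg.Agent.Lib.TransvMax.UnitaryBasic
import Cfsg.Agent.Lib.PrimeDim.Realise

/-!
Invariant forms and rational structures of absolutely irreducible groups on `F^ι`.
-/

set_option autoImplicit false
set_option linter.unusedSectionVars false

namespace Cfsg.Agent.SpFourEven

open scoped Matrix MatrixGroups
open Module
open Cfsg.Agent

variable {ι : Type} [Fintype ι] [DecidableEq ι] {F : Type*} [Field F]

local notation "V" => ι → F

local notation "Mat" => Matrix ι ι F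

/-- Only scalars commute with the group. -/
def ScalarCommutant (N : Subgroup (GL (ι) F)) : Prop :=
  ∀ M : Mat, (∀ g ∈ N, M * (g : Mat) = (g : Mat) * M) → ∃ c : F, M = c • (1 : Mat)

/-- Linear in the first argument, semilinear in the second one. -/
structure IsSesq (σ : F ≃+* F) (f : V → V → F) : Prop where
  add_left : ∀ x y v, f (x + y) v = f x v + f y v
  smul_left : ∀ (c : F) (x v : V), f (c • x) v = c * f x v
  add_right : ∀ v x y, f v (x + y) = f v x + f v y
  smul_right : ∀ (c : F) (v x : V), f v (c • x) = σ c * f v x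

theorem IsSesq.of_bilinear {f : V → V → F} (h : Cfsg.Geo.IsBilinearForm f) : IsSesq (RingEquiv.refl F) f :=
  ⟨h.add_left, h.smul_left, h.add_right, h.smul_right⟩

theorem IsSesq.of_unitary {σ : F ≃+* F} {f : V → V → F} (h : Cfsg.Geo.IsUnitaryForm σ f) : IsSesq σ f :=
  ⟨h.add_left, h.smul_left, fun v x y => by rw [h.herm, h.add_left, map_add, ← h.herm, ← h.herm],
    fun c v x => by rw [h.herm, h.smul_left, map_mul, ← h.herm]⟩

variable {σ : F ≃+* F} {f : (ι → F) → (ι → F) → F}

theorem IsSesq.sum_left (hf : IsSesq σ f) {κ : Type*} (s : Finset κ) (x : κ → V) (v : V) :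
    f (∑ i ∈ s, x i) v = ∑ i ∈ s, f (x i) v := by
  classical
  induction s using Finset.induction with
  | empty => simpa using hf.smul_left 0 0 v
  | insert a s ha ih => rw [Finset.sum_insert ha, Finset.sum_insert ha, hf.add_left, ih]

theorem IsSesq.sum_right (hf : IsSesq σ f) {κ : Type*} (s : Finset κ) (x : κ → V) (v : V) :
    f v (∑ i ∈ s, x i) = ∑ i ∈ s, f v (x i) := by
  classical
  induction s using Finset.induction with
  | empty => simpa using hf.smul_right 0 v 0
  | insert a s ha ih => rw [Finset.sum_insert ha, Finset.sum_insert ha, hf.add_right, ih]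

/-- The Gram matrix. -/
def gram (f : V → V → F) : Mat := fun i j => f (Pi.single i 1) (Pi.single j 1)

theorem IsSesq.eq_gram (hf : IsSesq σ f) (u v : V) :
    f u v = u ⬝ᵥ (gram f *ᵥ fun i => σ (v i)) := by
  classical
  conv_lhs => rw [pi_eq_sum_univ' u, hf.sum_left]
  refine Finset.sum_congr rfl fun i _ => ?_
  rw [hf.smul_left]
  congr 1
  conv_lhs => rw [pi_eq_sum_univ' v, hf.sum_right]
  refine Finset.sum_congr rfl fun j _ => ?_
  rw [hf.smul_right, mul_comm]
  rfl

theorem IsSesq.comp (hf : IsSesq σ f) (g : Mat) : IsSesq σ fun u v => f (g *ᵥ u) (g *ᵥ v) where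
  add_left x y v := by simp only [Matrix.mulVec_add, hf.add_left]
  smul_left c x v := by simp only [Matrix.mulVec_smul, hf.smul_left]
  add_right v x y := by simp only [Matrix.mulVec_add, hf.add_right]
  smul_right c v x := by simp only [Matrix.mulVec_smul, hf.smul_right]

theorem IsSesq.gram_comp (hf : IsSesq σ f) (g : Mat) :
    gram (fun u v => f (g *ᵥ u) (g *ᵥ v)) = gᵀ * gram f * g.map σ := by
  classical
  ext i j
  show f _ _ = _
  have h : (fun k => σ ((g *ᵥ Pi.single j 1) k)) = g.map σ *ᵥ Pi.single j 1 := by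
    funext k
    simp
  rw [hf.eq_gram, h, Matrix.mulVec_mulVec, ← Matrix.vecMul_transpose,
    ← Matrix.dotProduct_mulVec, Matrix.mulVec_mulVec, single_dotProduct, one_mul, ← mul_assoc,
    Matrix.mulVec_single_one, Matrix.col_apply]

theorem det_gram_ne_zero (hf : IsSesq σ f) (hn : Cfsg.Geo.IsNondegenerateForm f) : Matrix.det (gram f : Mat) ≠ (0 : F) := by
  classical
  intro h
  obtain ⟨v, hv, hv'⟩ := Matrix.exists_mulVec_eq_zero_iff.2 h
  obtain ⟨⟨x, hx⟩, -⟩ := hn (fun i => σ.symm (v i)) fun e => hv (funext fun i => by simpa using congrFun e i)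
  refine hx ?_
  rw [hf.eq_gram]
  simp [hv']

/-- An element normalising an absolutely irreducible group with entries in a subfield. -/
theorem mem_subfieldSubgroup_of_normalises [Nonempty ι] {N : Subgroup (GL (ι) F)} (hN : ScalarCommutant N)
    (F₀ : Subfield F) {B : GL (ι) F}
    (hB : ∀ s ∈ Cfsg.Geo.matrixSet N, ∀ i j, ((B : Mat) * s * ((B⁻¹ : GL (ι) F) : Mat)) i j ∈ F₀)
    {h : GL (ι) F} (hh : ∀ x ∈ N, h * x * h⁻¹ ∈ N) : h ∈ Cfsg.Geo.subfieldSubgroup F₀ B⁻¹ := by
  classical
  set h' : GL (ι) F := B * h * B⁻¹ with hh'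
  obtain ⟨i0, j0, hij⟩ : ∃ i j, (h' : Mat) i j ≠ 0 := by
    by_contra hc
    push Not at hc
    exact h'.ne_zero (Matrix.ext hc)
  obtain ⟨l, hl⟩ : ∃ l : F →ₗ[F₀] F₀, l ((h' : Mat) i0 j0) ≠ 0 := by
    by_contra hc
    push Not at hc
    exact hij ((Module.forall_dual_apply_eq_zero_iff F₀ _).1 hc)
  set X : Mat := fun i j => (l ((h' : Mat) i j) : F) with hX
  have hconj : ∀ x ∈ N, ((B * (h * x * h⁻¹) * B⁻¹ : GL (ι) F) : Mat) * X = X * ((B * x * B⁻¹ : GL (ι) F) : Mat) := by
    intro x hx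
    ext i j
    have h1 : (((B * (h * x * h⁻¹) * B⁻¹ : GL (ι) F)) : Mat) * (h' : Mat) =
        (h' : Mat) * ((B * x * B⁻¹ : GL (ι) F) : Mat) := by
      rw [hh', ← Units.val_mul, ← Units.val_mul]
      congr 1
      group
    have h2 := congrArg (fun M : Mat => (l (M i j) : F)) h1
    simp only [Matrix.mul_apply] at h2 ⊢
    rw [map_sum, map_sum, AddSubmonoidClass.coe_finsetSum, AddSubmonoidClass.coe_finsetSum] at h2
    refine Eq.trans ?_ (h2.trans ?_)
    · refine Finset.sum_congr rfl fun k _ => ?_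
      have hm : ((B * (h * x * h⁻¹) * B⁻¹ : GL (ι) F) : Mat) i k ∈ F₀ := by
        rw [Units.val_mul, Units.val_mul]; exact hB _ ⟨_, hh x hx, rfl⟩ i k
      conv_rhs => rw [show ((B * (h * x * h⁻¹) * B⁻¹ : GL (ι) F) : Mat) i k * (h' : Mat) k j =
        (⟨_, hm⟩ : F₀) • (h' : Mat) k j from rfl, map_smul]
      rfl
    · refine Finset.sum_congr rfl fun k _ => ?_
      have hm : ((B * x * B⁻¹ : GL (ι) F) : Mat) k j ∈ F₀ := by
        rw [Units.val_mul, Units.val_mul]; exact hB _ ⟨_, hx, rfl⟩ k j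
      rw [show (h' : Mat) i k * ((B * x * B⁻¹ : GL (ι) F) : Mat) k j =
        (⟨_, hm⟩ : F₀) • (h' : Mat) i k from mul_comm _ _, map_smul]
      exact mul_comm _ _
  set a : GL (ι) F := B⁻¹ * h'⁻¹ with ha
  obtain ⟨c, hc⟩ := hN ((a : Mat) * X * (B : Mat)) fun x hx => by
    have e1 : a * (B * (h * x * h⁻¹) * B⁻¹) = x * a := by rw [ha, hh']; group
    calc (a : Mat) * X * (B : Mat) * (x : Mat)
        = (a : Mat) * (X * ((B * x * B⁻¹ : GL (ι) F) : Mat)) * (B : Mat) := by
          simp only [Units.val_mul, mul_assoc]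
          rw [Units.inv_mul, mul_one]
      _ = (a : Mat) * ((B * (h * x * h⁻¹) * B⁻¹ : GL (ι) F) : Mat) * X * (B : Mat) := by
          rw [← hconj x hx]
          simp only [mul_assoc]
      _ = (x : Mat) * ((a : Mat) * X * (B : Mat)) := by
          rw [← Units.val_mul, e1, Units.val_mul, mul_assoc, mul_assoc, mul_assoc]
  have hXc : X = c • (h' : Mat) := by
    have ea : a⁻¹ = h' * B := by rw [ha]; group
    calc X = ((a⁻¹ : GL (ι) F) : Mat) * ((a : Mat) * X * (B : Mat)) * ((B⁻¹ : GL (ι) F) : Mat) := by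
          rw [mul_assoc (a : Mat), Units.inv_mul_cancel_left, Units.mul_inv_cancel_right]
      _ = c • (h' : Mat) := by
          rw [hc, Matrix.mul_smul, mul_one, Matrix.smul_mul, ea, Units.val_mul, Units.mul_inv_cancel_right]
  have hc0 : c ≠ 0 := by
    intro e
    rw [e, zero_smul] at hXc
    exact hl (Subtype.ext (congrFun (congrFun hXc i0) j0))
  refine (TransvMax.mem_subfieldSubgroup_iff F₀ B⁻¹ h).2 ⟨c, hc0, fun y => ?_⟩
  refine ⟨fun i => ∑ j, l ((h' : Mat) i j) * y j, ?_⟩
  rw [TransvMax.ratEmb, TransvMax.ratEmb]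
  have e1 : ((h : Mat) *ᵥ (((B⁻¹ : GL (ι) F) : Mat) *ᵥ fun i => (y i : F))) =
      ((B⁻¹ : GL (ι) F) : Mat) *ᵥ ((h' : Mat) *ᵥ fun i => (y i : F)) := by
    rw [Matrix.mulVec_mulVec, Matrix.mulVec_mulVec, hh', ← Units.val_mul, ← Units.val_mul]
    congr 2
    group
  rw [e1, ← Matrix.mulVec_smul, ← Matrix.smul_mulVec, ← hXc]
  congr 1
  funext i
  simp [Matrix.mulVec, dotProduct, hX]

theorem IsSesq.gram_invariant {σ : F ≃+* F} {f : (ι → F) → (ι → F) → F} (hf : IsSesq σ f)
    {N : Subgroup (GL (ι) F)} (hfix : Cfsg.Geo.FixesForm (Cfsg.Geo.matrixSet N) f) {x : GL (ι) F}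
    (hx : x ∈ N) : (x : Mat)ᵀ * gram f * (x : Mat).map σ = gram f := by
  rw [← hf.gram_comp]
  congr 1
  funext u v
  exact hfix _ ⟨x, hx, rfl⟩ u v

variable [Fintype F]

/-- A second invariant bilinear form gives a realisation over the fixed field. -/
theorem realisable_of_two_forms [Nonempty ι] {σ : F ≃+* F} {f : (ι → F) → (ι → F) → F}
    (hf : Cfsg.Geo.IsUnitaryForm σ f) {g : (ι → F) → (ι → F) → F} (hg : Cfsg.Geo.IsBilinearForm g)
    (hgn : Cfsg.Geo.IsNondegenerateForm g) {N : Subgroup (GL (ι) F)} (hN : ScalarCommutant N)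
    (hfixf : Cfsg.Geo.FixesForm (Cfsg.Geo.matrixSet N) f) (hfixg : Cfsg.Geo.FixesForm (Cfsg.Geo.matrixSet N) g) :
    ∃ F₀ : Subfield F, F₀ ≠ ⊤ ∧ Cfsg.Geo.RealisableOver F₀ (Cfsg.Geo.matrixSet N) := by
  classical
  have hfs := IsSesq.of_unitary hf
  have hgs := IsSesq.of_bilinear hg
  have hJ : IsUnit (gram f).det := (det_gram_ne_zero hfs hf.nondegenerate).isUnit
  have hB : IsUnit (gram g).det := (det_gram_ne_zero hgs hgn).isUnit
  set J := gram f
  set B := gram g
  set K : Mat := J⁻¹ * B with hK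
  have hKd : K.det ≠ 0 := by
    rw [hK, Matrix.det_mul]
    exact mul_ne_zero (Matrix.isUnit_nonsing_inv_det _ hJ).ne_zero hB.ne_zero
  have hsw : ∀ x ∈ N, (x : Mat).map σ * K = K * (x : Mat) := by
    intro x hx
    have h1 : (x : Mat)ᵀ * J * (x : Mat).map σ = J := hfs.gram_invariant hfixf hx
    have h2 : (x : Mat)ᵀ * B * (x : Mat) = B := by simpa using hgs.gram_invariant hfixg hx
    have hxd : IsUnit ((x : Mat)ᵀ * J).det := by
      rw [Matrix.det_mul, Matrix.det_transpose]
      exact ((Matrix.isUnit_iff_isUnit_det _).1 ⟨x, rfl⟩).mul hJ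
    refine (Matrix.isUnit_iff_isUnit_det _).2 hxd |>.mul_left_cancel ?_
    calc (x : Mat)ᵀ * J * ((x : Mat).map σ * K) = J * K := by rw [← mul_assoc, h1]
      _ = B := by rw [hK, Matrix.mul_nonsing_inv_cancel_left _ _ hJ]
      _ = (x : Mat)ᵀ * B * (x : Mat) := h2.symm
      _ = (x : Mat)ᵀ * J * (K * (x : Mat)) := by
        rw [hK, mul_assoc (x : Mat)ᵀ J, ← mul_assoc J, Matrix.mul_nonsing_inv_cancel_left _ _ hJ, ← mul_assoc]
  have hmap : ∀ (M : Mat) (v : ι → F), (fun i => σ ((M *ᵥ v) i)) = M.map σ *ᵥ fun i => σ (v i) := by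
    intro M v
    funext i
    simp [Matrix.mulVec, dotProduct, map_sum]
  have hσσ : ∀ M : Mat, (M.map σ).map σ = M := fun M => Matrix.ext fun i j => hf.involutive _
  -- the semilinear map
  let T : (ι → F) → (ι → F) := fun v i => σ ((K *ᵥ v) i)
  have hTx : ∀ x ∈ N, ∀ v, T ((x : Mat) *ᵥ v) = (x : Mat) *ᵥ T v := by
    intro x hx v
    show (fun i => σ ((K *ᵥ ((x : Mat) *ᵥ v)) i)) = _
    rw [Matrix.mulVec_mulVec, ← hsw x hx, ← Matrix.mulVec_mulVec, hmap, hσσ]
  have hT2 : ∀ v, T (T v) = (K.map σ * K) *ᵥ v := by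
    intro v
    show (fun i => σ ((K *ᵥ T v) i)) = _
    rw [hmap, ← Matrix.mulVec_mulVec]
    congr 1
    funext i
    exact hf.involutive _
  obtain ⟨μ, hμ⟩ := hN (K.map σ * K) fun x hx => Matrix.ext_iff_mulVec.2 fun v => by
    rw [← Matrix.mulVec_mulVec v _ (x : Mat), ← hT2, ← Matrix.mulVec_mulVec v (x : Mat), ← hT2, hTx x hx, hTx x hx]
  have hTs : ∀ (c : F) v, T (c • v) = σ c • T v := by
    intro c v
    funext i
    simp [T, Matrix.mulVec_smul]
  have hTa : ∀ v w, T (v + w) = T v + T w := by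
    intro v w
    funext i
    simp [T, Matrix.mulVec_add]
  have hμ0 : μ ≠ 0 := by
    intro h
    rw [h, zero_smul] at hμ
    have := congrArg Matrix.det hμ
    rw [Matrix.det_mul, Matrix.det_zero, ← RingEquiv.coe_toRingHom, ← RingHom.mapMatrix_apply,
      ← RingHom.map_det] at this
    rcases mul_eq_zero.1 this with h1 | h1
    · exact hKd (by simpa using h1)
    · exact hKd h1
  have hμσ : σ μ = μ := by
    have hTne : T (Pi.single (Classical.arbitrary ι) 1) ≠ 0 := by
      intro h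
      have h1 := hT2 (Pi.single (Classical.arbitrary ι) 1)
      rw [h, hμ, Matrix.smul_mulVec, Matrix.one_mulVec, show T 0 = 0 by simpa using hTs 0 0] at h1
      have := congrFun h1 (Classical.arbitrary ι)
      simp at this
      exact hμ0 this.symm
    have h1 := congrArg T (hT2 (Pi.single (Classical.arbitrary ι) 1))
    rw [hT2 (T (Pi.single (Classical.arbitrary ι) 1)), hμ, Matrix.smul_mulVec, Matrix.one_mulVec, Matrix.smul_mulVec, Matrix.one_mulVec,
      hTs] at h1
    exact (smul_left_injective F hTne h1).symm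
  obtain ⟨l, hl⟩ := TransvMax.exists_norm_eq hf.ne_refl hf.involutive (a := μ⁻¹) (by rw [map_inv₀, hμσ])
  let U : (ι → F) → (ι → F) := fun v => l • T v
  have hU2 : ∀ v, U (U v) = v := by
    intro v
    show l • T (l • T v) = v
    rw [hTs, hT2, hμ, Matrix.smul_mulVec, Matrix.one_mulVec, smul_smul, smul_smul, hl, inv_mul_cancel₀ hμ0, one_smul]
  have hUs : ∀ (c : F) v, U (c • v) = σ c • U v := fun c v => by
    show l • T (c • v) = σ c • (l • T v)
    rw [hTs, smul_comm]
  have hUa : ∀ v w, U (v + w) = U v + U w := fun v w => by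
    show l • T (v + w) = l • T v + l • T w
    rw [hTa, smul_add]
  obtain ⟨c, hc⟩ : ∃ c, σ c ≠ c := by
    by_contra h
    push Not at h
    exact hf.ne_refl (RingEquiv.ext h)
  have hspan : Submodule.span F {v | U v = v} = ⊤ := by
    refine eq_top_iff.2 fun v _ => ?_
    have ha : v + U v ∈ {w | U w = w} := by
      show U (v + U v) = v + U v
      rw [hUa, hU2, add_comm]
    have hb : c • v + σ c • U v ∈ {w | U w = w} := by
      show U (c • v + σ c • U v) = c • v + σ c • U v
      rw [hUa, hUs, hUs, hU2, hf.involutive, add_comm]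
    have h1 : (c - σ c) • v ∈ Submodule.span F {w | U w = w} := by
      have h2 := Submodule.sub_mem _ (Submodule.subset_span hb) (Submodule.smul_mem _ (σ c) (Submodule.subset_span ha))
      rw [show (c - σ c) • v = c • v + σ c • U v - σ c • (v + U v) by rw [smul_add, sub_smul]; abel]
      exact h2
    simpa [smul_smul, inv_mul_cancel₀ (sub_ne_zero.2 (Ne.symm hc))] using Submodule.smul_mem _ (c - σ c)⁻¹ h1
  obtain ⟨s, hsub, hspan', hli⟩ := exists_linearIndependent F {v : ι → F | U v = v}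
  rw [hspan] at hspan'
  let b0 : Basis s F (ι → F) := Basis.mk hli (by rw [Subtype.range_coe, hspan'])
  haveI : Fintype s := FiniteDimensional.fintypeBasisIndex b0
  have hcard : Fintype.card s = Fintype.card (ι) := by rw [← finrank_eq_card_basis b0]; simp
  let b : Basis (ι) F (ι → F) := b0.reindex (Fintype.equivOfCardEq hcard)
  have hbU : ∀ i, U (b i) = b i := fun i => by
    simp only [b, b0, Basis.reindex_apply, Basis.mk_apply]
    exact hsub (Subtype.coe_prop _)
  refine ⟨RingHom.eqLocusField σ.toRingHom (RingHom.id F), fun e => hc ?_, ?_⟩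
  · have : c ∈ RingHom.eqLocusField σ.toRingHom (RingHom.id F) := by rw [e]; exact Subfield.mem_top c
    exact this
  let P : GL (ι) F := TransvMax.glOf b.equivFun.symm
  have hP : ∀ i, (P : Mat) *ᵥ (Pi.single i 1 : ι → F) = b i := fun i => by
    show _ = b i
    rw [TransvMax.glOf_mulVec, Basis.equivFun_symm_apply]
    simp [Pi.single_apply]
  refine ⟨P⁻¹, ?_⟩
  rintro _ ⟨x, hx, rfl⟩ i j
  rw [inv_inv]
  set w : ι → F := (((P⁻¹ : GL (ι) F) : Mat) * (x : Mat) * (P : Mat)) *ᵥ (Pi.single j 1) with hw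
  have hxb : (x : Mat) *ᵥ b j = ∑ k, w k • b k := by
    have h1 : (P : Mat) *ᵥ w = ∑ k, w k • b k := by rw [TransvMax.glOf_mulVec, Basis.equivFun_symm_apply]
    rw [← h1, hw, ← Matrix.mulVec_mulVec, ← Matrix.mulVec_mulVec, hP, TransvMax.mulVec_inv_mulVec]
  have hfixw : U ((x : Mat) *ᵥ b j) = (x : Mat) *ᵥ b j := by
    show l • T _ = _
    rw [hTx x hx, ← Matrix.mulVec_smul]
    show (x : Mat) *ᵥ U (b j) = _
    rw [hbU]
  rw [hxb] at hfixw
  have hUsum : U (∑ k, w k • b k) = ∑ k, σ (w k) • b k := by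
    let Uh : (ι → F) →+ (ι → F) := AddMonoidHom.mk' U hUa
    show Uh _ = _
    rw [map_sum]
    exact Finset.sum_congr rfl fun k _ => by
      show U (w k • b k) = _
      rw [hUs, hbU]
  rw [hUsum] at hfixw
  have h3 := congrArg (fun v => b.repr v i) hfixw
  simp only [b.repr_sum_self] at h3
  show σ _ = _
  have h4 : (((P⁻¹ : GL (ι) F) : Mat) * (x : Mat) * (P : Mat)) i j = w i := by
    show _ = ((((P⁻¹ : GL (ι) F) : Mat) * (x : Mat) * (P : Mat)) *ᵥ (Pi.single j 1 : ι → F)) i
    rw [Matrix.mulVec_single_one, Matrix.col_apply]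
  rw [h4]
  exact h3

end Cfsg.Agent.SpFourEven
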