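import Cfsg.Agent.Lib.TransvMax.SpBridge
import Cfsg.Agent.Lib.TransvMax.SubfieldRat
import Cfsg.Prelude.Def_GeometricClasses

/-!
Four-dimensional symplectic geometry in characteristic two: the geometric subgroups and the invariant
configurations that lead to them.
-/

set_option autoImplicit false
set_option linter.unusedSectionVars false

namespace Cfsg.Agent.SpFourEven

open scoped Matrix MatrixGroups
open Module
open Cfsg.Agent

variable {F : Type*} [Field F] [Fintype F]

local notation "ι" => (Fin 2 ⊕ Fin 2)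
local notation "V" => (Fin 2 ⊕ Fin 2) → F
local notation "Mat" => Matrix (Fin 2 ⊕ Fin 2) (Fin 2 ⊕ Fin 2) F
local notation "Sp" => Cfsg.spGL 2 F

/-- The orthogonal of a subspace. -/
noncomputable def perp (W : Submodule F V) : Submodule F V := (FormsLib.spB 2 F).orthogonal W

theorem form_eq (u v : V) : Cfsg.sympForm 2 F u v = FormsLib.spB 2 F u v := TransvMax.sympForm_eq_spB u v

theorem mem_perp {W : Submodule F V} {v : V} : v ∈ perp W ↔ ∀ w ∈ W, Cfsg.sympForm 2 F w v = 0 := by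
  simp only [perp, LinearMap.BilinForm.mem_orthogonal_iff, form_eq]

theorem f_self (v : V) : Cfsg.sympForm 2 F v v = 0 := by rw [form_eq]; exact FormsLib.spB_alt v

theorem f_add_left (x y v : V) : Cfsg.sympForm 2 F (x + y) v = Cfsg.sympForm 2 F x v + Cfsg.sympForm 2 F y v := by
  simp only [form_eq, map_add, LinearMap.add_apply]

theorem f_add_right (v x y : V) : Cfsg.sympForm 2 F v (x + y) = Cfsg.sympForm 2 F v x + Cfsg.sympForm 2 F v y := by
  simp only [form_eq, map_add]

theorem f_smul_left (c : F) (x v : V) : Cfsg.sympForm 2 F (c • x) v = c * Cfsg.sympForm 2 F x v := by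
  simp only [form_eq, map_smul, LinearMap.smul_apply, smul_eq_mul]

theorem f_smul_right (c : F) (v x : V) : Cfsg.sympForm 2 F v (c • x) = c * Cfsg.sympForm 2 F v x := by
  simp only [form_eq, map_smul, smul_eq_mul]

theorem f_zero_left (v : V) : Cfsg.sympForm 2 F 0 v = 0 := by simp [form_eq]

theorem f_zero_right (v : V) : Cfsg.sympForm 2 F v 0 = 0 := by simp [form_eq]

theorem f_skew (u v : V) : Cfsg.sympForm 2 F u v = - Cfsg.sympForm 2 F v u := by
  rw [form_eq, form_eq]
  exact (FormsLib.spB_alt.neg v u).symm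

theorem neg_eq_self' (h2 : (2 : F) = 0) (a : F) : -a = a := by linear_combination (-a) * h2

theorem f_symm (h2 : (2 : F) = 0) (u v : V) : Cfsg.sympForm 2 F u v = Cfsg.sympForm 2 F v u := by
  rw [f_skew, neg_eq_self' h2]

theorem f_nondeg {v : V} (hv : v ≠ 0) : ∃ x, Cfsg.sympForm 2 F x v ≠ 0 := by
  by_contra h
  push Not at h
  exact hv (FormsLib.spB_nondeg.2 v fun x => by rw [← form_eq]; exact h x)

theorem f_isSymp : Cfsg.Geo.IsSymplecticForm (Cfsg.sympForm 2 F) := by
  refine ⟨⟨f_add_left, f_smul_left, f_add_right, f_smul_right⟩, f_skew, f_self, fun v hv => ?_⟩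
  obtain ⟨x, hx⟩ := f_nondeg hv
  exact ⟨⟨x, hx⟩, x, by rwa [f_skew, neg_ne_zero]⟩

theorem finrank_V : finrank F V = 4 := by simp

theorem finrank_perp (W : Submodule F V) : finrank F (perp W) = 4 - finrank F W := by
  rw [perp, LinearMap.BilinForm.finrank_orthogonal FormsLib.spB_nondeg, finrank_V]

theorem perp_perp (W : Submodule F V) : perp (perp W) = W :=
  LinearMap.BilinForm.orthogonal_orthogonal FormsLib.spB_nondeg
    (LinearMap.IsAlt.isRefl (B := FormsLib.spB 2 F) FormsLib.spB_alt) W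

theorem mem_sp {g : GL ι F} : g ∈ Sp ↔
    ∀ u v, Cfsg.sympForm 2 F ((g : Mat) *ᵥ u) ((g : Mat) *ᵥ v) = Cfsg.sympForm 2 F u v := Iff.rfl

/-- Invariance of a subspace. -/
def Inv (N : Subgroup (GL ι F)) (W : Submodule F V) : Prop := ∀ g ∈ N, ∀ w ∈ W, (g : Mat) *ᵥ w ∈ W

/-- Irreducibility. -/
def Irr4 (N : Subgroup (GL ι F)) : Prop := ∀ W : Submodule F V, Inv N W → W = ⊥ ∨ W = ⊤

/-- The image of a subspace. -/
def img (g : GL ι F) (W : Submodule F V) : Submodule F V := W.map (Matrix.toLin' (g : Mat))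

theorem mem_img {g : GL ι F} {W : Submodule F V} {v : V} :
    v ∈ img g W ↔ ((g⁻¹ : GL ι F) : Mat) *ᵥ v ∈ W := by
  constructor
  · rintro ⟨w, hw, rfl⟩
    rwa [Matrix.toLin'_apply, TransvMax.inv_mulVec_mulVec]
  · intro h
    exact ⟨_, h, by rw [Matrix.toLin'_apply, TransvMax.mulVec_inv_mulVec]⟩

theorem img_mem {g : GL ι F} {W : Submodule F V} {w : V} (hw : w ∈ W) : (g : Mat) *ᵥ w ∈ img g W :=
  ⟨w, hw, Matrix.toLin'_apply _ _⟩

theorem finrank_img (g : GL ι F) (W : Submodule F V) : finrank F (img g W) = finrank F W :=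
  (Submodule.equivMapOfInjective _ (fun x y h => by
    have := congrArg (((g⁻¹ : GL ι F) : Mat) *ᵥ ·) h
    simpa [TransvMax.inv_mulVec_mulVec] using this) W).finrank_eq.symm

theorem img_one (W : Submodule F V) : img 1 W = W := by
  ext v; simp [mem_img]

theorem img_mul (g h : GL ι F) (W : Submodule F V) : img (g * h) W = img g (img h W) := by
  ext v
  simp [mem_img, mul_inv_rev, Units.val_mul, Matrix.mulVec_mulVec]

theorem img_perp {g : GL ι F} (hg : g ∈ Sp) (W : Submodule F V) : img g (perp W) = perp (img g W) := by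
  ext v
  rw [mem_img, mem_perp, mem_perp]
  constructor
  · intro h w hw
    have h1 := h _ (mem_img.1 hw)
    rwa [← mem_sp.1 hg, TransvMax.mulVec_inv_mulVec, TransvMax.mulVec_inv_mulVec] at h1
  · intro h w hw
    have h1 := h _ (img_mem hw)
    rwa [← mem_sp.1 hg, TransvMax.mulVec_inv_mulVec]

theorem Inv.perp {N : Subgroup (GL ι F)} (hN : N ≤ Sp) {W : Submodule F V} (h : Inv N W) :
    Inv N (SpFourEven.perp W) := by
  intro g hg v hv
  rw [mem_perp] at hv ⊢
  intro w hw
  have h1 := hv _ (h g⁻¹ (N.inv_mem hg) w hw)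
  rwa [← mem_sp.1 (hN hg), TransvMax.mulVec_inv_mulVec] at h1

theorem Inv.inf {N : Subgroup (GL ι F)} {U W : Submodule F V} (h : Inv N U) (h' : Inv N W) : Inv N (U ⊓ W) :=
  fun g hg w hw => ⟨h g hg w hw.1, h' g hg w hw.2⟩

theorem Inv.sup {N : Subgroup (GL ι F)} {U W : Submodule F V} (h : Inv N U) (h' : Inv N W) : Inv N (U ⊔ W) := by
  intro g hg v hv
  obtain ⟨a, ha, b, hb, rfl⟩ := Submodule.mem_sup.1 hv
  rw [Matrix.mulVec_add]
  exact Submodule.add_mem_sup (h g hg a ha) (h' g hg b hb)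

theorem Inv.img {N : Subgroup (GL ι F)} {W : Submodule F V} (h : Inv N W) {g : GL ι F}
    (hg : ∀ x ∈ N, g⁻¹ * x * g ∈ N) : Inv N (SpFourEven.img g W) := by
  intro x hx v hv
  rw [mem_img] at hv ⊢
  have h1 := h _ (hg x hx) _ hv
  rwa [Units.val_mul, Units.val_mul, ← Matrix.mulVec_mulVec, ← Matrix.mulVec_mulVec,
    TransvMax.mulVec_inv_mulVec] at h1

/-- Totally singular subspaces. -/
def TS (W : Submodule F V) : Prop := ∀ u ∈ W, ∀ v ∈ W, Cfsg.sympForm 2 F u v = 0

theorem TS.img {g : GL ι F} (hg : g ∈ Sp) {W : Submodule F V} (h : TS W) : TS (SpFourEven.img g W) := by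
  intro u hu v hv
  have h1 := h _ (mem_img.1 hu) _ (mem_img.1 hv)
  rwa [← mem_sp.1 hg, TransvMax.mulVec_inv_mulVec, TransvMax.mulVec_inv_mulVec] at h1

theorem TS.le_perp {W : Submodule F V} (h : TS W) : W ≤ SpFourEven.perp W :=
  fun v hv => mem_perp.2 fun w hw => h w hw v hv

theorem TS.finrank_le {W : Submodule F V} (h : TS W) : finrank F W ≤ 2 := by
  have h1 := Submodule.finrank_mono h.le_perp
  rw [finrank_perp] at h1
  omega

theorem ts_of_finrank_one {W : Submodule F V} (h : finrank F W = 1) : TS W := by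
  obtain ⟨w, hw⟩ := finrank_eq_one_iff'.1 h
  intro u hu v hv
  obtain ⟨a, ha⟩ := hw.2 ⟨u, hu⟩
  obtain ⟨b, hb⟩ := hw.2 ⟨v, hv⟩
  have ha' : a • (w : V) = u := congrArg Subtype.val ha
  have hb' : b • (w : V) = v := congrArg Subtype.val hb
  rw [← ha', ← hb', f_smul_left, f_smul_right, f_self, mul_zero, mul_zero]

theorem nondeg_on {W : Submodule F V} (h : W ⊓ SpFourEven.perp W = ⊥) :
    Cfsg.Geo.IsNondegenerateOn (Cfsg.sympForm 2 F) W := by
  intro w hw hw0
  obtain ⟨x, hx, hxw⟩ : ∃ x ∈ W, Cfsg.sympForm 2 F x w ≠ 0 := by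
    by_contra hc
    push Not at hc
    exact hw0 ((Submodule.mem_bot F).1 (h ▸ ⟨hw, mem_perp.2 hc⟩))
  exact ⟨⟨x, hx, hxw⟩, x, hx, by rwa [f_skew, neg_ne_zero]⟩

/-! ### The list -/

/-- The list of cases. -/
def Out (H : Subgroup (GL ι F)) : Prop :=
  (∃ W : Submodule F V, W ≠ ⊥ ∧ Cfsg.Geo.IsTotallySingularFor (Cfsg.sympForm 2 F) W ∧
      H = Cfsg.Geo.subspaceStabilizer W ⊓ Sp) ∨
    (∃ D : Fin 2 → Submodule F V, Cfsg.Geo.IsNondegenerateMDecomposition (Cfsg.sympForm 2 F) 2 D ∧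
      H = Cfsg.Geo.decompositionStabilizer D ⊓ Sp) ∨
    (∃ K : Subalgebra F Mat, Cfsg.Geo.IsFieldSubalgebra 2 K ∧ Cfsg.Geo.IsSelfAdjointFor (Cfsg.sympForm 2 F) K ∧
      (∀ k ∈ K, ∀ v : V, (Cfsg.sympForm 2 F) (Matrix.mulVec k v) v = 0) ∧
      H = Cfsg.Geo.subalgebraNormalizer K ⊓ Sp) ∨
    (∃ (F₀ : Subfield F) (r : ℕ) (P : GL ι F) (ζ : F), r.Prime ∧ Fintype.card F = Nat.card F₀ ^ r ∧ ζ ≠ 0 ∧
      Cfsg.Geo.IsFormRationalStructure (Cfsg.sympForm 2 F) F₀ ζ P ∧ H = Cfsg.Geo.subfieldSubgroup F₀ P ⊓ Sp) ∨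
    (∃ Q : V → F, Cfsg.Geo.IsNondegenerateQuadraticForm Q ∧
      (∀ u v : V, QuadraticMap.polar Q u v = (Cfsg.sympForm 2 F) u v) ∧
      H = Cfsg.Geo.quadSimilarityGroup Q ⊓ Sp) ∨
    Cfsg.Geo.InSymplecticResidualClass H

theorem eq_inf_of_le {H M : Subgroup (GL ι F)} (hH : Cfsg.Geo.IsMaximalIn Sp H) (hle : H ≤ M)
    (hne : ¬ Sp ≤ M) : H = M ⊓ Sp := by
  rcases hH.2 (M ⊓ Sp) (le_inf hle hH.1.le) inf_le_right with h | h
  · exact h.symm
  · exact absurd (inf_eq_right.1 h) hne

/-- A symplectic transvection. -/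
noncomputable def trv4 (v : V) (c : F) : GL ι F := TransvMax.glOf (FormsLib.tau FormsLib.spB_alt v c)

theorem trv4_mem (v : V) (c : F) : trv4 v c ∈ Sp :=
  TransvMax.glOf_mem_spGL.2 (FormsLib.tau_mem FormsLib.spB_alt v c)

theorem trv4_mulVec (v : V) (c : F) (x : V) :
    (trv4 v c : Mat) *ᵥ x = x + (c * Cfsg.sympForm 2 F x v) • v := by
  rw [trv4, TransvMax.glOf_mulVec, FormsLib.tau_apply, form_eq]

theorem sp_irr : Irr4 (Sp : Subgroup (GL ι F)) := by
  intro W hW
  refine or_iff_not_imp_left.2 fun h0 => ?_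
  obtain ⟨u, hu, hu0⟩ := Submodule.exists_mem_ne_zero_of_ne_bot h0
  have h1 : ∀ v, Cfsg.sympForm 2 F u v ≠ 0 → v ∈ W := by
    intro v hv
    have h2 := hW _ (trv4_mem v 1) u hu
    rw [trv4_mulVec, one_mul] at h2
    have h3 : (Cfsg.sympForm 2 F u v) • v ∈ W := by simpa using W.sub_mem h2 hu
    simpa [smul_smul, inv_mul_cancel₀ hv] using W.smul_mem (Cfsg.sympForm 2 F u v)⁻¹ h3
  obtain ⟨x, hx⟩ := f_nondeg hu0
  rw [f_skew, neg_ne_zero] at hx
  refine top_unique fun z _ => ?_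
  by_cases hz : Cfsg.sympForm 2 F u z = 0
  · have h2 := W.sub_mem (h1 (z + x) (by rwa [f_add_right, hz, zero_add])) (h1 x hx)
    simpa using h2
  · exact h1 z hz

theorem subspace_case {H : Subgroup (GL ι F)} (hH : Cfsg.Geo.IsMaximalIn Sp H) {W : Submodule F V}
    (hinv : Inv H W) (h0 : W ≠ ⊥) (hts : TS W) : Out H := by
  refine Or.inl ⟨W, h0, hts, eq_inf_of_le hH (fun g hg v => ⟨fun hv => hinv g hg v hv, fun hv => ?_⟩) fun hle => ?_⟩
  · have h1 := hinv g⁻¹ (H.inv_mem hg) _ hv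
    rwa [show Cfsg.glToMat ι F g *ᵥ v = (g : Mat) *ᵥ v from rfl, TransvMax.inv_mulVec_mulVec] at h1
  · rcases sp_irr W fun g hg w hw => ((hle hg) w).1 hw with h | h
    · exact h0 h
    · have := hts.finrank_le
      rw [h, finrank_top, finrank_V] at this
      omega

theorem planes_case {H : Subgroup (GL ι F)} (hH : Cfsg.Geo.IsMaximalIn Sp H) {W : Submodule F V}
    (hd : finrank F W = 2) (hW : W ⊓ perp W = ⊥) (hperm : ∀ g ∈ H, img g W = W ∨ img g W = perp W) : Out H := by
  have hd' : finrank F (perp W) = 2 := by rw [finrank_perp, hd]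
  have hsup : W ⊔ perp W = ⊤ := by
    refine Submodule.eq_top_of_finrank_eq ?_
    have := Submodule.finrank_sup_add_finrank_inf_eq W (perp W)
    rw [hW, finrank_bot, hd, hd'] at this
    rw [finrank_V]
    omega
  set D : Fin 2 → Submodule F V := ![W, perp W] with hD
  have hne : W ≠ perp W := fun e => by
    rw [← e, inf_idem] at hW
    rw [hW, finrank_bot] at hd
    omega
  have hdec : Cfsg.Geo.IsNondegenerateMDecomposition (Cfsg.sympForm 2 F) 2 D := by
    refine ⟨⟨le_refl 2, by norm_num, Fin.forall_fin_two.2 ⟨hd, hd'⟩, ?_, ?_⟩, Fin.forall_fin_two.2 ⟨?_, ?_⟩, ?_⟩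
    · rw [iSupIndep_def]
      intro i
      fin_cases i
      · refine Disjoint.mono_right (iSup₂_le fun j hj => ?_) (disjoint_iff.2 hW)
        fin_cases j
        · exact absurd rfl hj
        · exact le_refl _
      · refine Disjoint.mono_right (iSup₂_le fun j hj => ?_) (disjoint_iff.2 hW).symm
        fin_cases j
        · exact le_refl _
        · exact absurd rfl hj
    · refine top_unique (hsup ▸ sup_le (le_iSup D 0) (le_iSup D 1))
    · exact nondeg_on hW
    · exact nondeg_on (by show perp W ⊓ perp (perp W) = ⊥; rw [perp_perp, inf_comm, hW])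
    · intro i j hij u hu v hv
      fin_cases i <;> fin_cases j
      · exact absurd rfl hij
      · exact mem_perp.1 hv u hu
      · rw [f_skew, mem_perp.1 hu v hv, neg_zero]
      · exact absurd rfl hij
  refine Or.inr (Or.inl ⟨D, hdec, eq_inf_of_le hH (fun g hg => ?_) fun hle => ?_⟩)
  · rcases hperm g hg with h | h
    · refine ⟨1, Fin.forall_fin_two.2 ⟨h, ?_⟩⟩
      show img g (perp W) = perp W
      rw [img_perp (hH.1.le hg), h]
    · refine ⟨Equiv.swap 0 1, Fin.forall_fin_two.2 ⟨?_, ?_⟩⟩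
      · rw [Equiv.swap_apply_left]; exact h
      · rw [Equiv.swap_apply_right]
        show img g (perp W) = W
        rw [img_perp (hH.1.le hg), h, perp_perp]
  · obtain ⟨a, ha, ha0⟩ := Submodule.exists_mem_ne_zero_of_ne_bot (p := W) fun e => by
      rw [e, finrank_bot] at hd; omega
    obtain ⟨b, hb, hb0⟩ := Submodule.exists_mem_ne_zero_of_ne_bot (p := perp W) fun e => by
      rw [e, finrank_bot] at hd'; omega
    obtain ⟨⟨x, hx, hxa⟩, -⟩ := nondeg_on hW a ha ha0
    obtain ⟨π, hπ⟩ := hle (trv4_mem (a + b) 1)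
    have h1 := (hπ 0).le (Submodule.mem_map_of_mem (show x ∈ D 0 from hx))
    rw [Matrix.toLin'_apply, trv4_mulVec, one_mul, f_add_right, mem_perp.1 hb x hx, add_zero] at h1
    set c := Cfsg.sympForm 2 F x a
    rcases (show ∀ i : Fin 2, i = 0 ∨ i = 1 by decide) (π 0) with hp | hp <;> rw [hp] at h1
    · have h2 : c • b ∈ W := by
        have h3 := W.sub_mem (W.sub_mem h1 hx) (W.smul_mem c ha)
        simpa [smul_add] using h3
      have h4 : c • b = 0 := (Submodule.mem_bot F).1 (hW ▸ ⟨h2, Submodule.smul_mem _ c hb⟩)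
      rcases smul_eq_zero.1 h4 with h5 | h5
      · exact hxa h5
      · exact hb0 h5
    · have h2 : x + c • a ∈ perp W := by
        have h3 := (perp W).sub_mem h1 ((perp W).smul_mem c hb)
        have e : x + c • (a + b) - c • b = x + c • a := by rw [smul_add]; abel
        rwa [e] at h3
      have h4 : x + c • a = 0 := (Submodule.mem_bot F).1 (hW ▸ ⟨W.add_mem hx (W.smul_mem c ha), h2⟩)
      have h5 := congrArg (fun z => Cfsg.sympForm 2 F z a) h4
      simp only [f_add_left, f_smul_left, f_self, mul_zero, add_zero, f_zero_left] at h5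
      exact hxa h5

theorem reducible_case {H : Subgroup (GL ι F)} (hH : Cfsg.Geo.IsMaximalIn Sp H) (hirr : ¬ Irr4 H) : Out H := by
  unfold Irr4 at hirr
  push Not at hirr
  obtain ⟨W, hinv, h0, h1⟩ := hirr
  by_cases hW : W ⊓ perp W = ⊥
  · have hd : finrank F W = 2 := by
      have hle : finrank F W < 4 := by
        have := Submodule.finrank_lt h1
        rwa [finrank_V] at this
      have hpos : 0 < finrank F W := by
        rcases Nat.eq_zero_or_pos (finrank F W) with h | h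
        · exact absurd (Submodule.finrank_eq_zero.1 h) h0
        · exact h
      rcases show finrank F W = 1 ∨ finrank F W = 2 ∨ finrank F W = 3 by omega with h | h | h
      · rw [inf_eq_left.2 (ts_of_finrank_one h).le_perp] at hW
        exact absurd hW h0
      · exact h
      · exfalso
        have h2 : finrank F (perp W) = 1 := by rw [finrank_perp, h]
        have h3 := (ts_of_finrank_one h2).le_perp
        rw [perp_perp] at h3
        rw [inf_eq_right.2 h3] at hW
        rw [hW, finrank_bot] at h2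
        omega
    exact planes_case hH hd hW fun g hg => Or.inl (Submodule.eq_of_le_of_finrank_eq
      (by rintro _ ⟨w, hw, rfl⟩; rw [Matrix.toLin'_apply]; exact hinv g hg w hw) (finrank_img g W))
  · exact subspace_case hH (hinv.inf (hinv.perp hH.1.le)) hW fun u hu v hv => mem_perp.1 hv.2 u hu.1

/-! ### Quadratic forms -/

/-- A quadratic form with polar form the standard one. -/
structure PolQ (Q : V → F) : Prop where
  smul : ∀ (c : F) (v : V), Q (c • v) = c ^ 2 * Q v
  add : ∀ u v : V, Q (u + v) = Q u + Q v + Cfsg.sympForm 2 F u v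

theorem PolQ.polar_eq {Q : V → F} (hQ : PolQ Q) (u v : V) :
    QuadraticMap.polar Q u v = Cfsg.sympForm 2 F u v := by
  rw [QuadraticMap.polar, hQ.add]; ring

theorem PolQ.nondeg {Q : V → F} (hQ : PolQ Q) : Cfsg.Geo.IsNondegenerateQuadraticForm Q := by
  have e : QuadraticMap.polar Q = Cfsg.sympForm 2 F := funext fun u => funext fun v => hQ.polar_eq u v
  exact ⟨hQ.smul, e ▸ f_isSymp.bilinear, e ▸ f_isSymp.nondegenerate⟩

theorem exists_ne_zero_one (h4 : 4 ≤ Fintype.card F) : ∃ a : F, a ≠ 0 ∧ a ≠ 1 := by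
  classical
  by_contra hc
  push Not at hc
  have hsub : (Finset.univ : Finset F) ⊆ {0, 1} := fun t _ => by
    by_cases h : t = 0
    · simp [h]
    · simp [hc t h]
  have h1 := (Finset.card_le_card hsub).trans Finset.card_le_two
  rw [Finset.card_univ] at h1
  omega

theorem quad_case (h2 : (2 : F) = 0) (h4 : 4 ≤ Fintype.card F) {H : Subgroup (GL ι F)}
    (hH : Cfsg.Geo.IsMaximalIn Sp H) {Q : V → F} (hQ : PolQ Q) (hinv : ∀ g ∈ H, ∀ v, Q ((g : Mat) *ᵥ v) = Q v) :
    Out H := by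
  refine Or.inr (Or.inr (Or.inr (Or.inr (Or.inl ⟨Q, hQ.nondeg, hQ.polar_eq,
    eq_inf_of_le hH (fun g hg => ⟨1, fun v => by rw [Units.val_one, one_mul]; exact hinv g hg v⟩) fun hle => ?_⟩))))
  obtain ⟨v, hv⟩ : ∃ v, Q v ≠ 0 := by
    by_contra hc
    push Not at hc
    obtain ⟨x, hx⟩ := f_nondeg (v := Pi.single (Sum.inl 0) (1 : F)) fun e => by simpa using congrFun e (Sum.inl 0)
    exact hx (by rw [← hQ.polar_eq, QuadraticMap.polar, hc, hc, hc]; ring)
  obtain ⟨x, hx⟩ := f_nondeg (v := v) fun e => hv (by rw [e]; simpa using hQ.smul 0 0)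
  have key : ∀ t : F, t ≠ 0 → t * Q v + 1 = 0 := by
    intro t ht
    obtain ⟨c, hc⟩ := hle (trv4_mem v t)
    have h1 := hc v
    rw [trv4_mulVec, f_self, mul_zero, zero_smul, add_zero] at h1
    have hc1 : (c : F) = 1 := mul_right_cancel₀ hv (by rw [one_mul]; exact h1.symm)
    have h3 := hc x
    rw [trv4_mulVec, hQ.add, hQ.smul, f_smul_right, hc1, one_mul] at h3
    have h5 : (t * Q v + 1) * (t * Cfsg.sympForm 2 F x v ^ 2) = 0 := by linear_combination h3
    exact (mul_eq_zero.1 h5).resolve_right (mul_ne_zero ht (pow_ne_zero 2 hx))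
  obtain ⟨a, ha0, ha1⟩ := exists_ne_zero_one h4
  have e1 := key 1 one_ne_zero
  have e2 := key a ha0
  have h5 : (a - 1) * Q v = 0 := by linear_combination e2 - e1
  rcases mul_eq_zero.1 h5 with h | h
  · exact ha1 (sub_eq_zero.1 h)
  · exact hv h

theorem pair_quad (h2 : (2 : F) = 0) {U U' : Submodule F V} (hc : IsCompl U U') (hU : TS U) (hU' : TS U') :
    ∃ Q : V → F, PolQ Q ∧ ∀ g ∈ (Sp : Subgroup (GL ι F)),
      (img g U = U ∧ img g U' = U') ∨ (img g U = U' ∧ img g U' = U) → ∀ v, Q ((g : Mat) *ᵥ v) = Q v := by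
  set π : V →ₗ[F] U := U.linearProjOfIsCompl U' hc with hπ
  have hdec : ∀ v, ∃ a ∈ U, ∃ b ∈ U', a + b = v := fun v =>
    Submodule.mem_sup.1 (hc.sup_eq_top ▸ Submodule.mem_top)
  have hπa : ∀ a ∈ U, ∀ b ∈ U', (π (a + b) : V) = a := by
    intro a ha b hb
    rw [map_add, show π a = ⟨a, ha⟩ from Submodule.linearProjOfIsCompl_apply_left hc ⟨a, ha⟩,
      show π b = 0 from Submodule.linearProjOfIsCompl_apply_right' hc hb, add_zero]
  set Q : V → F := fun v => Cfsg.sympForm 2 F (π v : V) v with hQ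
  have hQab : ∀ a ∈ U, ∀ b ∈ U', Q (a + b) = Cfsg.sympForm 2 F a b := by
    intro a ha b hb
    show Cfsg.sympForm 2 F (π (a + b) : V) (a + b) = _
    rw [hπa a ha b hb, f_add_right, hU a ha a ha, zero_add]
  have hpol : PolQ Q := by
    refine ⟨fun c v => ?_, fun u v => ?_⟩
    · show Cfsg.sympForm 2 F (π (c • v) : V) (c • v) = c ^ 2 * Cfsg.sympForm 2 F (π v : V) v
      rw [map_smul, Submodule.coe_smul, f_smul_left, f_smul_right]
      ring
    · obtain ⟨a, ha, b, hb, rfl⟩ := hdec u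
      obtain ⟨c, hcU, d, hd, rfl⟩ := hdec v
      rw [show a + b + (c + d) = (a + c) + (b + d) by abel, hQab _ (U.add_mem ha hcU) _ (U'.add_mem hb hd),
        hQab a ha b hb, hQab c hcU d hd]
      simp only [f_add_left, f_add_right]
      rw [hU a ha c hcU, hU' b hb d hd, f_symm h2 c b]
      ring
  refine ⟨Q, hpol, fun g hg hperm v => ?_⟩
  obtain ⟨a, ha, b, hb, rfl⟩ := hdec v
  rw [Matrix.mulVec_add, hQab a ha b hb]
  rcases hperm with ⟨h, h'⟩ | ⟨h, h'⟩
  · rw [hQab _ (h ▸ img_mem ha) _ (h' ▸ img_mem hb), mem_sp.1 hg]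
  · rw [add_comm, hQab _ (h' ▸ img_mem hb) _ (h ▸ img_mem ha), mem_sp.1 hg, f_symm h2]

theorem pair_case (h2 : (2 : F) = 0) (h4 : 4 ≤ Fintype.card F) {H : Subgroup (GL ι F)}
    (hH : Cfsg.Geo.IsMaximalIn Sp H) {U U' : Submodule F V} (hc : IsCompl U U') (hU : TS U) (hU' : TS U')
    (hperm : ∀ g ∈ H, (img g U = U ∧ img g U' = U') ∨ (img g U = U' ∧ img g U' = U)) : Out H := by
  obtain ⟨Q, hQ, hinv⟩ := pair_quad h2 hc hU hU'
  exact quad_case h2 h4 hH hQ fun g hg => hinv g (hH.1.le hg) (hperm g hg)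

/-! ### Fields of degree two -/

theorem field_not_le {K : Subalgebra F Mat} (hK : Cfsg.Geo.IsFieldSubalgebra 2 K) :
    ¬ Sp ≤ Cfsg.Geo.subalgebraNormalizer K := by
  intro hle
  have hinj : ∀ k ∈ K, ∀ z : V, z ≠ 0 → k *ᵥ z = 0 → k = 0 := by
    intro k hk z hz hkz
    by_contra hk0
    obtain ⟨k', hk', hkk⟩ := hK.inv k hk hk0
    refine hz ?_
    rw [← Matrix.one_mulVec z, ← hkk, hK.comm k hk k' hk', ← Matrix.mulVec_mulVec, hkz, Matrix.mulVec_zero]
  obtain ⟨w, hw, hws⟩ : ∃ w ∈ K, ∀ c : F, w ≠ c • (1 : Mat) := by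
    by_contra hc
    push Not at hc
    have hKb : K.toSubmodule ≤ Submodule.span F {(1 : Mat)} := fun k hk => by
      obtain ⟨c, rfl⟩ := hc k hk
      exact Submodule.smul_mem _ _ (Submodule.mem_span_singleton_self _)
    have := (Submodule.finrank_mono hKb).trans (finrank_span_singleton (K := F) (one_ne_zero (α := Mat))).le
    have h2 := hK.finrank_eq
    rw [Subalgebra.finrank_toSubmodule] at this
    omega
  set v : V := Pi.single (Sum.inl 0) 1
  have hv : v ≠ 0 := fun e => by simpa [v] using congrFun e (Sum.inl 0)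
  set t := trv4 v 1
  have htK := ((hle (trv4_mem v 1)) w).1 hw
  set k' : Mat := (t : Mat) * w * ((t⁻¹ : GL ι F) : Mat)
  -- a non-zero vector on which the transvection fixes both it and its image
  set S : Submodule F V := perp (Submodule.span F {v}) ⊓ (perp (Submodule.span F {v})).comap (Matrix.toLin' w) with hS
  have hl : ∀ x : V, x ∈ perp (Submodule.span F {v}) ↔ Cfsg.sympForm 2 F x v = 0 := by
    intro x
    rw [mem_perp]
    constructor
    · intro h
      rw [f_skew, h v (Submodule.mem_span_singleton_self v), neg_zero]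
    · intro h y hy
      obtain ⟨c, rfl⟩ := Submodule.mem_span_singleton.1 hy
      rw [f_smul_left, f_skew, h, neg_zero, mul_zero]
  obtain ⟨x, hx, hx0⟩ : ∃ x ∈ S, x ≠ 0 := by
    refine Submodule.exists_mem_ne_zero_of_ne_bot fun hbot => ?_
    set p := perp (Submodule.span F {v}) with hp
    have h3 : finrank F p = 3 := by rw [hp, finrank_perp, finrank_span_singleton hv]
    have hinjw : Function.Injective (Matrix.toLin' w) := by
      rw [← LinearMap.ker_eq_bot]
      refine eq_bot_iff.2 fun z hz => ?_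
      rw [LinearMap.mem_ker, Matrix.toLin'_apply] at hz
      by_contra hz0
      exact hws 0 (by rw [zero_smul]; exact hinj w hw z (fun e => hz0 (by simp [e])) hz)
    have h4' : finrank F (p.comap (Matrix.toLin' w)) = 3 := by
      rw [← h3]
      refine (LinearEquiv.finrank_eq ?_)
      exact (LinearEquiv.ofInjectiveEndo _ hinjw).ofSubmodule' p
    have h5 := Submodule.finrank_sup_add_finrank_inf_eq p (p.comap (Matrix.toLin' w))
    rw [← hS, hbot, finrank_bot, h3, h4'] at h5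
    have h6 := Submodule.finrank_le (p ⊔ p.comap (Matrix.toLin' w))
    rw [finrank_V] at h6
    omega
  have hfix : ∀ y : V, Cfsg.sympForm 2 F y v = 0 → (t : Mat) *ᵥ y = y := fun y hy => by
    rw [trv4_mulVec, hy, mul_zero, zero_smul, add_zero]
  have hkx : (k' - w) *ᵥ x = 0 := by
    have hx1 : (t : Mat) *ᵥ x = x := hfix x ((hl x).1 hx.1)
    have hx2 : ((t⁻¹ : GL ι F) : Mat) *ᵥ x = x := by
      conv_lhs => rw [← hx1]
      exact TransvMax.inv_mulVec_mulVec _ _
    rw [Matrix.sub_mulVec, ← Matrix.mulVec_mulVec, ← Matrix.mulVec_mulVec, hx2,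
      hfix _ ((hl _).1 (by simpa using hx.2)), sub_self]
  have hkw := sub_eq_zero.1 (hinj _ (K.sub_mem htK hw) x hx0 hkx)
  obtain ⟨y, hy⟩ := f_nondeg hv
  have h1 := congrArg (fun M : Mat => M *ᵥ ((t : Mat) *ᵥ y)) hkw
  simp only [k', ← Matrix.mulVec_mulVec, TransvMax.inv_mulVec_mulVec] at h1
  rw [trv4_mulVec, trv4_mulVec, one_mul, one_mul, Matrix.mulVec_add, Matrix.mulVec_smul] at h1
  have h2 := add_left_cancel h1
  refine hws (Cfsg.sympForm 2 F (w *ᵥ y) v / Cfsg.sympForm 2 F y v) (sub_eq_zero.1 (hinj _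
    (K.sub_mem hw (K.smul_mem K.one_mem _)) v hv ?_))
  rw [Matrix.sub_mulVec, Matrix.smul_mulVec, Matrix.one_mulVec, div_eq_mul_inv, mul_comm, mul_smul, h2,
    smul_smul, inv_mul_cancel₀ hy, one_smul, sub_self]

theorem field_case (h2 : (2 : F) = 0) (h4 : 4 ≤ Fintype.card F) {H : Subgroup (GL ι F)}
    (hH : Cfsg.Geo.IsMaximalIn Sp H) {K : Subalgebra F Mat} (hK : Cfsg.Geo.IsFieldSubalgebra 2 K)
    (hadj : ∀ k ∈ K, ∃ k' ∈ K, ∀ u v, Cfsg.sympForm 2 F (k *ᵥ u) v = Cfsg.sympForm 2 F u (k' *ᵥ v))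
    (hnorm : ∀ g ∈ H, ∀ k ∈ K, (g : Mat) * k * ((g⁻¹ : GL ι F) : Mat) ∈ K) : Out H := by
  classical
  have h2K : ∀ M : Mat, M + M = 0 := fun M => by
    ext i j
    rw [Matrix.add_apply, Matrix.zero_apply]
    linear_combination M i j * h2
  have hzero : ∀ a ∈ K, ∀ b ∈ K, a * b = 0 → a = 0 ∨ b = 0 := by
    intro a ha b hb hab
    refine or_iff_not_imp_left.2 fun ha0 => ?_
    obtain ⟨a', ha', haa⟩ := hK.inv a ha ha0
    rw [← one_mul b, ← haa, hK.comm a ha a' ha', mul_assoc, hab, mul_zero]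
  have huniq : ∀ M M' : Mat, (∀ u v, Cfsg.sympForm 2 F u (M *ᵥ v) = Cfsg.sympForm 2 F u (M' *ᵥ v)) → M = M' := by
    intro M M' h
    refine Matrix.ext_iff_mulVec.2 fun v => sub_eq_zero.1 ?_
    by_contra h0
    obtain ⟨x, hx⟩ := f_nondeg h0
    apply hx
    have := h x v
    simp only [form_eq] at this ⊢
    rw [map_sub, this, sub_self]
  obtain ⟨w, hw, hws⟩ : ∃ w ∈ K, ∀ c : F, w ≠ c • (1 : Mat) := by
    by_contra hc
    push Not at hc
    have hKb : K.toSubmodule ≤ Submodule.span F {(1 : Mat)} := fun k hk => by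
      obtain ⟨c, rfl⟩ := hc k hk
      exact Submodule.smul_mem _ _ (Submodule.mem_span_singleton_self _)
    have := (Submodule.finrank_mono hKb).trans (finrank_span_singleton (K := F) (one_ne_zero (α := Mat))).le
    have h3 := hK.finrank_eq
    rw [Subalgebra.finrank_toSubmodule] at this
    omega
  have hind : ∀ a b : F, a • (1 : Mat) + b • w = 0 → a = 0 ∧ b = 0 := by
    intro a b h
    have hb : b = 0 := by
      by_contra hb
      refine hws (-a / b) ?_
      have h1 := congrArg (b⁻¹ • ·) h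
      simp only [smul_add, smul_smul, inv_mul_cancel₀ hb, one_smul, smul_zero] at h1
      rw [eq_neg_of_add_eq_zero_right h1, ← neg_smul]
      congr 1
      field_simp
    rw [hb, zero_smul, add_zero] at h
    exact ⟨(smul_eq_zero.1 h).resolve_right one_ne_zero, hb⟩
  have hspan : ∀ k ∈ K, ∃ a b : F, k = a • (1 : Mat) + b • w := by
    intro k hk
    have hli : LinearIndependent F ![(1 : Mat), w] := LinearIndependent.pair_iff.2 fun s t h => hind s t h
    have hle : Submodule.span F (Set.range ![(1 : Mat), w]) ≤ K.toSubmodule := Submodule.span_le.2 (by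
      rintro _ ⟨i, rfl⟩
      fin_cases i
      · exact K.one_mem
      · exact hw)
    have heq := Submodule.eq_of_le_of_finrank_eq hle (by
      rw [finrank_span_eq_card hli, Fintype.card_fin, Subalgebra.finrank_toSubmodule, hK.finrank_eq])
    have hk' : k ∈ Submodule.span F (Set.range ![(1 : Mat), w]) := heq ▸ hk
    obtain ⟨c, hc⟩ := (Submodule.mem_span_range_iff_exists_fun F).1 hk'
    exact ⟨c 0, c 1, by simpa [Fin.sum_univ_two] using hc.symm⟩
  obtain ⟨w', hw', hww⟩ := hadj w hw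
  obtain ⟨s, t, hst⟩ := hspan w' hw'
  have hadjlin : ∀ a b : F, ∀ u v, Cfsg.sympForm 2 F ((a • (1 : Mat) + b • w) *ᵥ u) v =
      Cfsg.sympForm 2 F u ((a • (1 : Mat) + b • w') *ᵥ v) := by
    intro a b u v
    simp only [Matrix.add_mulVec, Matrix.smul_mulVec, Matrix.one_mulVec, f_add_left, f_add_right, f_smul_left,
      f_smul_right, hww]
  have hback : ∀ u v, Cfsg.sympForm 2 F u (w *ᵥ v) = Cfsg.sympForm 2 F (w' *ᵥ u) v := by
    intro u v
    rw [f_symm h2, hww, f_symm h2]
  have ht : t = 1 := by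
    have e : w = (s + t * s) • (1 : Mat) + (t * t) • w := huniq _ _ fun u v => by
      rw [hback, hst, hadjlin, hst, smul_add, smul_smul, smul_smul, add_smul]
      simp only [Matrix.add_mulVec]
      congr 1
      abel
    obtain ⟨-, h'⟩ := hind (s + t * s) (t * t - 1) (by rw [sub_smul, one_smul, ← add_sub_assoc, ← e, sub_self])
    have h3 : (t - 1) ^ 2 = 0 := by linear_combination h' - (t - 1) * h2
    exact sub_eq_zero.1 ((pow_eq_zero_iff two_ne_zero).1 h3)
  rw [ht, one_smul] at hst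
  by_cases hs : s = 0
  · -- self-adjoint
    rw [hs, zero_smul, zero_add] at hst
    have hsa : Cfsg.Geo.IsSelfAdjointFor (Cfsg.sympForm 2 F) K := by
      intro k hk u v
      obtain ⟨a, b, rfl⟩ := hspan k hk
      rw [hadjlin, hst]
    refine Or.inr (Or.inr (Or.inl ⟨K, hK, hsa, fun k hk v => ?_,
      eq_inf_of_le hH (fun g hg k => ⟨fun hk => hnorm g hg k hk, fun hk => ?_⟩) (field_not_le hK)⟩))
    · obtain ⟨e, he⟩ : ∃ e : K, (e : Mat) * e = k := by
        have hinj : Function.Injective fun e : K => e * e := fun x y hxy => by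
          have h3 : ((x : Mat) + y) * ((x : Mat) + y) = 0 := by
            have hxy' : (x : Mat) * x = (y : Mat) * y := congrArg Subtype.val hxy
            rw [mul_add, add_mul, add_mul, hK.comm y y.2 x x.2, hxy',
              show (y : Mat) * y + x * y + (x * y + y * y) = ((y : Mat) * y + y * y) + (x * y + x * y) by abel,
              h2K, h2K, add_zero]
          have h5 := (hzero _ (K.add_mem x.2 y.2) _ (K.add_mem x.2 y.2) h3).elim id id
          refine Subtype.ext ?_
          rw [← sub_eq_zero, sub_eq_add_neg, show -(y : Mat) = y from neg_eq_of_add_eq_zero_left (h2K _), h5]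
        obtain ⟨e, he⟩ := Finite.injective_iff_surjective.1 hinj ⟨k, hk⟩
        exact ⟨e, congrArg Subtype.val he⟩
      rw [← he, ← Matrix.mulVec_mulVec, hsa e e.2, f_self]
    · have h1 := hnorm g⁻¹ (H.inv_mem hg) _ hk
      rw [inv_inv] at h1
      simpa [mul_assoc, ← Units.val_mul] using h1
  · -- twisted: an invariant quadratic form
    set z : Mat := s⁻¹ • w with hz
    have hzK : z ∈ K := K.smul_mem hw _
    have hzadj : ∀ u v, Cfsg.sympForm 2 F (z *ᵥ u) v = Cfsg.sympForm 2 F u ((1 + z) *ᵥ v) := by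
      intro u v
      rw [hz, Matrix.smul_mulVec, f_smul_left, hww, hst]
      simp only [Matrix.add_mulVec, Matrix.smul_mulVec, Matrix.one_mulVec, f_add_right, f_smul_right]
      field_simp
    set Q : V → F := fun v => Cfsg.sympForm 2 F (z *ᵥ v) v with hQ
    have hpol : PolQ Q := by
      refine ⟨fun c v => ?_, fun u v => ?_⟩
      · show Cfsg.sympForm 2 F (z *ᵥ (c • v)) (c • v) = c ^ 2 * Cfsg.sympForm 2 F (z *ᵥ v) v
        rw [Matrix.mulVec_smul, f_smul_left, f_smul_right]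
        ring
      · show Cfsg.sympForm 2 F (z *ᵥ (u + v)) (u + v) = _
        have h6 : Cfsg.sympForm 2 F (z *ᵥ v) u = Cfsg.sympForm 2 F u v + Cfsg.sympForm 2 F (z *ᵥ u) v := by
          rw [f_symm h2 (z *ᵥ v) u, hzadj, Matrix.add_mulVec, Matrix.one_mulVec, f_add_right]
          linear_combination (-(Cfsg.sympForm 2 F u v)) * h2
        rw [Matrix.mulVec_add, f_add_left, f_add_right, f_add_right, h6]
        show _ = Cfsg.sympForm 2 F (z *ᵥ u) u + Cfsg.sympForm 2 F (z *ᵥ v) v + _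
        linear_combination (Cfsg.sympForm 2 F (z *ᵥ u) v) * h2
    refine quad_case h2 h4 hH hpol fun g hg v => ?_
    have hc : ((g⁻¹ : GL ι F) : Mat) * z * (g : Mat) ∈ K := by
      have h1 := hnorm g⁻¹ (H.inv_mem hg) z hzK
      rwa [inv_inv] at h1
    set c : Mat := ((g⁻¹ : GL ι F) : Mat) * z * (g : Mat) with hcdef
    obtain ⟨a, b, hab⟩ := hspan _ (K.mul_mem hzK hzK)
    have hzz : ∃ d : F, z * z + z = d • (1 : Mat) := by
      have e1 : ∀ u v, Cfsg.sympForm 2 F ((z * z) *ᵥ u) v = Cfsg.sympForm 2 F u (((1 + z) * (1 + z)) *ᵥ v) := by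
        intro u v
        rw [← Matrix.mulVec_mulVec, hzadj, hzadj, Matrix.mulVec_mulVec]
      have e2 : (1 + z) * (1 + z) = a • (1 : Mat) + b • w' := huniq _ _ fun u v => by
        rw [← e1, hab, hadjlin]
      have e3 : (1 : Mat) + z * z = a • (1 : Mat) + (b * s) • (1 : Mat) + b • w := by
        rw [add_assoc, ← smul_smul, ← smul_add, ← hst, ← e2, mul_add, add_mul, add_mul, one_mul, one_mul, mul_one,
          show (1 : Mat) + z + (z + z * z) = 1 + z * z + (z + z) by abel, h2K, add_zero]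
      rw [hab, show (1 : Mat) + (a • (1 : Mat) + b • w) = a • (1 : Mat) + (1 : F) • (1 : Mat) + b • w by
        rw [one_smul]; abel] at e3
      have hbs : b * s = 1 := by
        have e4 := add_left_cancel (add_right_cancel e3)
        exact (smul_left_injective F (one_ne_zero (α := Mat)) e4).symm
      refine ⟨a, ?_⟩
      rw [hab, hz, show b = s⁻¹ from eq_inv_of_mul_eq_one_left hbs, add_assoc, h2K, add_zero]
    obtain ⟨d, hd⟩ := hzz
    have hcc : c * c + c = d • (1 : Mat) := by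
      calc c * c + c = ((g⁻¹ : GL ι F) : Mat) * (z * z + z) * (g : Mat) := by
            rw [hcdef, mul_add, add_mul]
            congr 1
            simp only [mul_assoc, Units.mul_inv_cancel_left]
        _ = d • (1 : Mat) := by rw [hd, Matrix.mul_smul, Matrix.smul_mul, mul_one, Units.inv_mul]
    have hprod : (c + z) * (c + z + 1) = 0 := by
      rw [mul_add, mul_one, mul_add, add_mul, add_mul, hK.comm z hzK c hc,
        show c * c + c * z + (c * z + z * z) + (c + z) = (c * c + c) + (z * z + z) + (c * z + c * z) by abel,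
        hcc, hd, h2K, h2K, add_zero]
    show Cfsg.sympForm 2 F (z *ᵥ ((g : Mat) *ᵥ v)) ((g : Mat) *ᵥ v) = Cfsg.sympForm 2 F (z *ᵥ v) v
    have hgz : z *ᵥ ((g : Mat) *ᵥ v) = (g : Mat) *ᵥ (c *ᵥ v) := by
      rw [Matrix.mulVec_mulVec, Matrix.mulVec_mulVec, hcdef, mul_assoc _ z, Units.mul_inv_cancel_left]
    rw [hgz, mem_sp.1 (hH.1.le hg)]
    have hneg : ∀ M : Mat, -M = M := fun M => neg_eq_of_add_eq_zero_left (h2K M)
    rcases hzero _ (K.add_mem hc hzK) _ (K.add_mem (K.add_mem hc hzK) K.one_mem) hprod with h | h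
    · rw [eq_neg_of_add_eq_zero_left h, hneg]
    · rw [add_assoc] at h
      rw [eq_neg_of_add_eq_zero_left h, hneg, Matrix.add_mulVec, Matrix.one_mulVec, f_add_left, f_self, add_zero]

/-! ### Subfields -/

theorem subfield_not_le {F₀ : Subfield F} (hF₀ : F₀ ≠ ⊤) (P : GL ι F) :
    ¬ Sp ≤ Cfsg.Geo.subfieldSubgroup F₀ P := by
  intro hle
  obtain ⟨a, ha⟩ : ∃ a : F, a ∉ F₀ := by
    by_contra h
    push Not at h
    exact hF₀ (top_unique fun x _ => h x)
  set y₀ : ι → F₀ := Pi.single (Sum.inl 0) 1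
  set v := TransvMax.ratEmb F₀ P y₀ with hv
  have hv0 : v ≠ 0 := fun e => by
    have h1 := congrFun (TransvMax.ratEmb_injective F₀ P (e.trans (TransvMax.ratEmb_zero F₀ P).symm)) (Sum.inl 0)
    simp [y₀] at h1
  obtain ⟨z, hz⟩ := f_nondeg hv0
  obtain ⟨j, hj⟩ : ∃ j, Cfsg.sympForm 2 F (TransvMax.ratEmb F₀ P (Pi.single j 1)) v ≠ 0 := by
    by_contra hc
    push Not at hc
    refine hz ?_
    rw [← TransvMax.mulVec_inv_mulVec P z, pi_eq_sum_univ' (((P⁻¹ : GL ι F) : Mat) *ᵥ z), Matrix.mulVec_sum,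
      form_eq, map_sum, LinearMap.sum_apply]
    refine Finset.sum_eq_zero fun i _ => ?_
    rw [Matrix.mulVec_smul, ← form_eq, f_smul_left, ← TransvMax.ratEmb_single F₀ P i, hc, mul_zero]
  set β := Cfsg.sympForm 2 F (TransvMax.ratEmb F₀ P (Pi.single j 1)) v with hβ
  obtain ⟨c, hc, hy⟩ := (TransvMax.mem_subfieldSubgroup_iff F₀ P _).1 (hle (trv4_mem v (a / β)))
  obtain ⟨y1, hy1⟩ := hy y₀
  rw [trv4_mulVec, ← hv, f_self, mul_zero, zero_smul, add_zero] at hy1
  have hcF : c ∈ F₀ := by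
    have h1 := congrArg (fun x => (((P⁻¹ : GL ι F) : Mat) *ᵥ x) (Sum.inl 0)) hy1
    simp only [hv, TransvMax.ratEmb, Matrix.mulVec_smul, TransvMax.inv_mulVec_mulVec, Pi.smul_apply,
      smul_eq_mul] at h1
    simp only [y₀, Pi.single_eq_same, OneMemClass.coe_one, mul_one] at h1
    rw [h1]
    exact (y1 (Sum.inl 0)).2
  obtain ⟨y2, hy2⟩ := hy (Pi.single j 1)
  rw [trv4_mulVec, ← hβ, div_mul_cancel₀ _ (show β ≠ 0 from hj)] at hy2
  have h1 := congrArg (fun x => (((P⁻¹ : GL ι F) : Mat) *ᵥ x) (Sum.inl 0)) hy2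
  simp only [hv, TransvMax.ratEmb, Matrix.mulVec_smul, Matrix.mulVec_add, TransvMax.inv_mulVec_mulVec,
    Pi.smul_apply, Pi.add_apply, smul_eq_mul] at h1
  simp only [y₀, Pi.single_eq_same, OneMemClass.coe_one, mul_one] at h1
  refine ha ?_
  have h3 : a = ((y2 (Sum.inl 0) : F₀) : F) / c - (((Pi.single j 1 : ι → F₀) (Sum.inl 0) : F₀) : F) := by
    rw [eq_sub_iff_add_eq, eq_div_iff hc, ← h1]
    ring
  rw [h3]
  exact F₀.sub_mem (F₀.div_mem (y2 _).2 hcF) (SetLike.coe_mem _)

end Cfsg.Agent.SpFourEven
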