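import Cfsg.Agent.Lib.SpFourEven.Geometry
import Cfsg.Agent.Lib.SpFourEven.Generic
import Mathlib.RingTheory.LittleWedderburn

/-!
The maximal subgroups of the four-dimensional symplectic groups in characteristic two are geometric or residual.
-/

set_option autoImplicit false
set_option linter.unusedSectionVars false
set_option maxHeartbeats 1600000

namespace Cfsg.Agent.SpFourEven

open scoped Matrix MatrixGroups commutatorElement
open Module
open Cfsg.Agent

variable {F : Type*} [Field F] [Fintype F]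

local notation "ι" => (Fin 2 ⊕ Fin 2)
local notation "V" => (Fin 2 ⊕ Fin 2) → F
local notation "Mat" => Matrix (Fin 2 ⊕ Fin 2) (Fin 2 ⊕ Fin 2) F
local notation "Sp" => Cfsg.spGL 2 F

/-- No common eigenvector. -/
def NoEig (N : Subgroup (GL ι F)) : Prop :=
  ∀ w : V, w ≠ 0 → ¬ ∀ x ∈ N, ∃ c : F, (x : Mat) *ᵥ w = c • w

theorem NoEig.finrank_ne_one {N : Subgroup (GL ι F)} (h : NoEig N) {W : Submodule F V} (hW : Inv N W) :
    finrank F W ≠ 1 := by
  intro hd
  obtain ⟨w, hw, hgen⟩ := finrank_eq_one_iff'.1 hd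
  refine h w (fun e => hw (Subtype.ext e)) fun x hx => ?_
  obtain ⟨c, hc⟩ := hgen ⟨_, hW x hx w w.2⟩
  exact ⟨c, (congrArg Subtype.val hc).symm⟩

theorem NoEig.finrank_two {N : Subgroup (GL ι F)} (h : NoEig N) (hN : N ≤ Sp) {W : Submodule F V} (hW : Inv N W)
    (h0 : W ≠ ⊥) (h1 : W ≠ ⊤) : finrank F W = 2 := by
  have hle : finrank F W < 4 := by
    have := Submodule.finrank_lt h1
    rwa [finrank_V] at this
  have hpos : finrank F W ≠ 0 := fun e => h0 (Submodule.finrank_eq_zero.1 e)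
  have h2 := h.finrank_ne_one (hW.perp hN)
  rw [finrank_perp] at h2
  have h3 := h.finrank_ne_one hW
  omega

theorem NoEig.inf_bot {N : Subgroup (GL ι F)} (h : NoEig N) {U W : Submodule F V} (hU : Inv N U) (hW : Inv N W)
    (dU : finrank F U = 2) (dW : finrank F W = 2) (hne : U ≠ W) : U ⊓ W = ⊥ := by
  by_contra h0
  have h1 : finrank F (U ⊓ W : Submodule F V) ≤ 2 := (Submodule.finrank_mono inf_le_left).trans dU.le
  have h2 : finrank F (U ⊓ W : Submodule F V) ≠ 0 := fun e => h0 (Submodule.finrank_eq_zero.1 e)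
  have h3 := h.finrank_ne_one (hU.inf hW)
  have h4 : finrank F (U ⊓ W : Submodule F V) = 2 := by omega
  exact hne ((Submodule.eq_of_le_of_finrank_eq inf_le_left (h4.trans dU.symm)).symm.trans
    (Submodule.eq_of_le_of_finrank_eq inf_le_right (h4.trans dW.symm)))

theorem isCompl_of_two {U W : Submodule F V} (dU : finrank F U = 2) (dW : finrank F W = 2) (h : U ⊓ W = ⊥) :
    IsCompl U W := by
  refine IsCompl.of_eq h (Submodule.eq_top_of_finrank_eq ?_)
  have := Submodule.finrank_sup_add_finrank_inf_eq U W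
  rw [h, finrank_bot, dU, dW] at this
  rw [finrank_V]
  omega

theorem TS.inf_perp {U : Submodule F V} (hU : TS U) : U ⊓ SpFourEven.perp U = U := inf_eq_left.2 hU.le_perp

/-- An invariant subspace is totally singular or non-degenerate. -/
theorem ts_or_nondeg {N : Subgroup (GL ι F)} (h : NoEig N) (hN : N ≤ Sp) {W : Submodule F V} (hW : Inv N W)
    (dW : finrank F W = 2) : TS W ∨ W ⊓ perp W = ⊥ := by
  by_cases e : W = perp W
  · exact Or.inl fun u hu v hv => mem_perp.1 (e ▸ hv) u hu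
  · exact Or.inr (h.inf_bot hW (hW.perp hN) dW (by rw [finrank_perp, dW]) e)

/-- A third invariant plane gives a totally singular one. -/
theorem exists_ts_of_third (h2 : (2 : F) = 0) {T : Subgroup (GL ι F)} (hT : NoEig T) (hTS : T ≤ Sp)
    {W X : Submodule F V} (hW : Inv T W) (dW : finrank F W = 2) (hnd : W ⊓ perp W = ⊥) (hX : Inv T X)
    (dX : finrank F X = 2) (hXW : X ≠ W) (hXP : X ≠ perp W) :
    ∃ U : Submodule F V, Inv T U ∧ finrank F U = 2 ∧ TS U := by
  classical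
  have dP : finrank F (perp W) = 2 := by rw [finrank_perp, dW]
  have hc := isCompl_of_two dW dP hnd
  set π : V →ₗ[F] V := W.subtype.comp (W.linearProjOfIsCompl (perp W) hc) with hπ
  have hπW : ∀ v, π v ∈ W := fun v => Subtype.coe_prop _
  have hπl : ∀ a ∈ W, π a = a := fun a ha => by
    show ((W.linearProjOfIsCompl (perp W) hc a : W) : V) = a
    rw [show W.linearProjOfIsCompl (perp W) hc a = ⟨a, ha⟩ from Submodule.linearProjOfIsCompl_apply_left hc ⟨a, ha⟩]
  have hπr : ∀ b ∈ perp W, π b = 0 := fun b hb => by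
    show ((W.linearProjOfIsCompl (perp W) hc b : W) : V) = 0
    rw [show W.linearProjOfIsCompl (perp W) hc b = 0 from Submodule.linearProjOfIsCompl_apply_right' hc hb]
    rfl
  have hπP : ∀ v, v - π v ∈ perp W := by
    intro v
    obtain ⟨a, ha, b, hb, rfl⟩ := Submodule.mem_sup.1 (hc.sup_eq_top ▸ Submodule.mem_top (x := v))
    rw [map_add, hπl a ha, hπr b hb]
    simpa using hb
  have hcomm : ∀ g ∈ T, ∀ v, π ((g : Mat) *ᵥ v) = (g : Mat) *ᵥ π v := by
    intro g hg v
    conv_lhs => rw [← add_sub_cancel (π v) v]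
    rw [Matrix.mulVec_add, map_add, hπl _ (hW g hg _ (hπW v)), hπr _ ((hW.perp hTS) g hg _ (hπP v)), add_zero]
  have hsplit : ∀ u v, Cfsg.sympForm 2 F u v =
      Cfsg.sympForm 2 F (π u) (π v) + Cfsg.sympForm 2 F (u - π u) (v - π v) := by
    intro u v
    have e1 := mem_perp.1 (hπP v) (π u) (hπW u)
    have e2 : Cfsg.sympForm 2 F (u - π u) (π v) = 0 := by
      rw [f_skew, mem_perp.1 (hπP u) (π v) (hπW v), neg_zero]
    conv_lhs => rw [← add_sub_cancel (π u) u, ← add_sub_cancel (π v) v]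
    rw [f_add_left, f_add_right, f_add_right, e1, e2]
    ring
  have hXW' := hT.inf_bot hX hW dX dW hXW
  have hXP' := hT.inf_bot hX (hW.perp hTS) dX dP hXP
  set b := Module.finBasisOfFinrankEq F X dX with hb
  set x₁ : V := (b 0 : V)
  set x₂ : V := (b 1 : V)
  set A := Cfsg.sympForm 2 F (π x₁) (π x₂) with hA
  set B := Cfsg.sympForm 2 F (x₁ - π x₁) (x₂ - π x₂) with hB
  have hspanX : ∀ v ∈ X, ∃ a c : F, v = a • x₁ + c • x₂ := by
    intro v hv
    refine ⟨b.repr ⟨v, hv⟩ 0, b.repr ⟨v, hv⟩ 1, ?_⟩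
    have := congrArg Subtype.val (b.sum_repr ⟨v, hv⟩)
    simp only [Fin.sum_univ_two, Submodule.coe_add, Submodule.coe_smul] at this
    exact this.symm
  have hne : ∀ L : V →ₗ[F] V, (∀ v ∈ X, L v = 0 → v = 0) → ∀ Z : Submodule F V, finrank F Z = 2 →
      (∀ v ∈ X, L v ∈ Z) → Submodule.map L X = Z := by
    intro L hL Z dZ hLZ
    refine Submodule.eq_of_le_of_finrank_eq (by rintro _ ⟨v, hv, rfl⟩; exact hLZ v hv) ?_
    refine Eq.trans ?_ (dX.trans dZ.symm)
    exact (LinearEquiv.ofBijective (L.submoduleMap X) ⟨fun u v huv => Subtype.ext (sub_eq_zero.1 (hL _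
      (X.sub_mem u.2 v.2) (by rw [map_sub]; exact sub_eq_zero.2 (congrArg Subtype.val huv)))),
      L.submoduleMap_surjective X⟩).finrank_eq.symm
  have hform : ∀ (L : V →ₗ[F] V) (v w : V), v ∈ X → w ∈ X → Cfsg.sympForm 2 F (L x₁) (L x₂) = 0 →
      Cfsg.sympForm 2 F (L v) (L w) = 0 := by
    intro L v w hv hw h0
    obtain ⟨a, c, rfl⟩ := hspanX v hv
    obtain ⟨a', c', rfl⟩ := hspanX w hw
    simp only [map_add, map_smul, f_add_left, f_add_right, f_smul_left, f_smul_right, f_self]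
    rw [f_skew (L x₂) (L x₁), h0]
    ring
  have hinjπ : ∀ v ∈ X, π v = 0 → v = 0 := fun v hv h => (Submodule.mem_bot F).1 (hXP' ▸ ⟨hv, by
    have := hπP v; rwa [h, sub_zero] at this⟩)
  have hinjρ : ∀ v ∈ X, v - π v = 0 → v = 0 := fun v hv h => (Submodule.mem_bot F).1 (hXW' ▸ ⟨hv, by
    rw [sub_eq_zero.1 h]; exact hπW v⟩)
  have hA0 : A ≠ 0 := by
    intro h0
    have hts : TS W := by
      intro u hu v hv
      have e := hne π hinjπ W dW fun v _ => hπW v
      rw [← e] at hu hv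
      obtain ⟨u, hu, rfl⟩ := hu
      obtain ⟨v, hv, rfl⟩ := hv
      exact hform π u v hu hv h0
    rw [hts.inf_perp] at hnd
    rw [hnd, finrank_bot] at dW
    omega
  have hB0 : B ≠ 0 := by
    intro h0
    have hts : TS (perp W) := by
      intro u hu v hv
      have e := hne (LinearMap.id - π) (fun v hv h => hinjρ v hv (by simpa using h)) (perp W) dP
        fun v _ => by simpa using hπP v
      rw [← e] at hu hv
      obtain ⟨u, hu, rfl⟩ := hu
      obtain ⟨v, hv, rfl⟩ := hv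
      exact hform _ u v hu hv (by simpa using h0)
    have h3 := hts.inf_perp
    rw [perp_perp, inf_comm, hnd] at h3
    rw [← h3, finrank_bot] at dP
    omega
  obtain ⟨a, ha⟩ : ∃ a : F, a * a = A / B := by
    have hinj : Function.Injective fun e : F => e * e := fun x y hxy => by
      have h3 : (x - y) * (x - y) = 0 := by
        have h4 : x * x = y * y := hxy
        linear_combination h4 + (y * y - x * y) * h2
      exact sub_eq_zero.1 (mul_self_eq_zero.1 h3)
    exact Finite.injective_iff_surjective.1 hinj _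
  set L : V →ₗ[F] V := π + a • (LinearMap.id - π) with hL
  have hLx : ∀ v, L v = π v + a • (v - π v) := fun v => by simp [hL]
  have hππ : ∀ v, π (π v) = π v := fun v => hπl _ (hπW v)
  have hLπ : ∀ v, π (L v) = π v := fun v => by
    rw [hLx, map_add, map_smul, map_sub, hππ, sub_self, smul_zero, add_zero]
  have hLρ : ∀ v, L v - π (L v) = a • (v - π v) := fun v => by rw [hLπ, hLx]; abel
  refine ⟨Submodule.map L X, ?_, ?_, ?_⟩
  · rintro g hg _ ⟨v, hv, rfl⟩
    refine ⟨_, hX g hg v hv, ?_⟩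
    rw [hLx, hLx, hcomm g hg, Matrix.mulVec_add, Matrix.mulVec_smul, Matrix.mulVec_sub]
  · refine Eq.trans ?_ dX
    exact (LinearEquiv.ofBijective (L.submoduleMap X) ⟨fun u v huv => Subtype.ext (sub_eq_zero.1 (hinjπ _
      (X.sub_mem u.2 v.2) (by rw [← hLπ, map_sub, show L (u : V) = L v from congrArg Subtype.val huv, sub_self, map_zero]))),
      L.submoduleMap_surjective X⟩).finrank_eq.symm
  · rintro _ ⟨u, hu, rfl⟩ _ ⟨v, hv, rfl⟩
    refine hform L u v hu hv ?_
    rw [hsplit, hLρ, hLρ, hLπ, hLπ, f_smul_left, f_smul_right, ← hA, ← hB, ← mul_assoc, ha,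
      div_mul_cancel₀ _ hB0]
    linear_combination A * h2

theorem no_fixed_of_noEig {N : Subgroup (GL ι F)} (h : NoEig N) :
    ∀ k : V, (∀ x ∈ N, (x : Mat) *ᵥ k = k) → k = 0 := fun k hk => by
  by_contra h0
  exact h k h0 fun x hx => ⟨1, by rw [hk x hx, one_smul]⟩

/-- A group without fixed vectors fixes at most one quadratic form with the given polar form. -/
theorem polQ_unique (h2 : (2 : F) = 0) {N : Subgroup (GL ι F)} (hN : N ≤ Sp)
    (hfix : ∀ k : V, (∀ x ∈ N, (x : Mat) *ᵥ k = k) → k = 0) {Q Q' : V → F} (hQ : PolQ Q) (hQ' : PolQ Q')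
    (hi : ∀ x ∈ N, ∀ v, Q ((x : Mat) *ᵥ v) = Q v) (hi' : ∀ x ∈ N, ∀ v, Q' ((x : Mat) *ᵥ v) = Q' v) : Q = Q' := by
  classical
  have hinj : Function.Injective fun e : F => e * e := fun x y hxy => by
    have h3 : (x - y) * (x - y) = 0 := by
      have h4 : x * x = y * y := hxy
      linear_combination h4 + (y * y - x * y) * h2
    exact sub_eq_zero.1 (mul_self_eq_zero.1 h3)
  choose sq hsq using Finite.injective_iff_surjective.1 hinj
  have hsq' : ∀ a, sq a * sq a = a := hsq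
  let l : V →ₗ[F] F :=
    { toFun := fun v => sq (Q v - Q' v)
      map_add' := fun u v => hinj (by
        show sq _ * sq _ = (sq _ + sq _) * (sq _ + sq _)
        rw [hsq', hQ.add, hQ'.add]
        linear_combination -hsq' (Q u - Q' u) - hsq' (Q v - Q' v) - (sq (Q u - Q' u) * sq (Q v - Q' v)) * h2)
      map_smul' := fun c v => hinj (by
        show sq _ * sq _ = (c * sq _) * (c * sq _)
        rw [hsq', hQ.smul, hQ'.smul]
        linear_combination -(c ^ 2) * hsq' (Q v - Q' v)) }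
  obtain ⟨k, hk⟩ : ∃ k : V, ∀ v, Cfsg.sympForm 2 F k v = l v :=
    ⟨((FormsLib.spB 2 F).toDual FormsLib.spB_nondeg).symm l, fun v => by
      rw [form_eq]; exact LinearMap.BilinForm.apply_toDual_symm_apply (hB := FormsLib.spB_nondeg) l v⟩
  have hk0 : k = 0 := hfix k fun x hx => by
    refine sub_eq_zero.1 (by_contra fun h0 => ?_)
    obtain ⟨v, hv⟩ := f_nondeg h0
    refine hv ?_
    obtain ⟨u, rfl⟩ : ∃ u, (x : Mat) *ᵥ u = v := ⟨_, TransvMax.mulVec_inv_mulVec x v⟩
    rw [form_eq, map_sub, ← form_eq, ← form_eq, mem_sp.1 (hN hx), f_symm h2 u k, f_symm h2 _ k, hk, hk]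
    show sq (Q u - Q' u) - sq (Q ((x : Mat) *ᵥ u) - Q' ((x : Mat) *ᵥ u)) = 0
    rw [hi x hx, hi' x hx, sub_self]
  funext v
  have h1 := hk v
  rw [hk0, f_zero_left] at h1
  have h3 := hsq' (Q v - Q' v)
  rw [show sq (Q v - Q' v) = 0 from h1.symm, mul_zero] at h3
  exact sub_eq_zero.1 h3.symm

theorem polQ_comp {Q : V → F} (hQ : PolQ Q) {h : GL ι F} (hh : h ∈ Sp) : PolQ fun v => Q ((h : Mat) *ᵥ v) := by
  refine ⟨fun c v => ?_, fun u v => ?_⟩
  · show Q ((h : Mat) *ᵥ (c • v)) = _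
    rw [Matrix.mulVec_smul, hQ.smul]
  · show Q ((h : Mat) *ᵥ (u + v)) = _
    rw [Matrix.mulVec_add, hQ.add, mem_sp.1 hh]

/-- A normalised group fixing a quadratic form puts the normaliser into its isometry group. -/
theorem quad_of_normal (h2 : (2 : F) = 0) (h4 : 4 ≤ Fintype.card F) {H N : Subgroup (GL ι F)}
    (hH : Cfsg.Geo.IsMaximalIn Sp H) (hN : N ≤ Sp) (hNn : ∀ g ∈ H, ∀ x ∈ N, g * x * g⁻¹ ∈ N)
    (hfix : ∀ k : V, (∀ x ∈ N, (x : Mat) *ᵥ k = k) → k = 0) {Q : V → F} (hQ : PolQ Q)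
    (hi : ∀ x ∈ N, ∀ v, Q ((x : Mat) *ᵥ v) = Q v) : Out H := by
  refine quad_case h2 h4 hH hQ fun g hg v => ?_
  refine congrFun (polQ_unique h2 hN hfix (polQ_comp hQ (hH.1.le hg)) hQ (fun x hx w => ?_) hi) v
  show Q ((g : Mat) *ᵥ ((x : Mat) *ᵥ w)) = Q ((g : Mat) *ᵥ w)
  have h1 := hi _ (hNn g hg x hx) ((g : Mat) *ᵥ w)
  rwa [Units.val_mul, Units.val_mul, ← Matrix.mulVec_mulVec, ← Matrix.mulVec_mulVec,
    TransvMax.inv_mulVec_mulVec] at h1

theorem inv_conj {H N : Subgroup (GL ι F)} (hNn : ∀ g ∈ H, ∀ x ∈ N, g * x * g⁻¹ ∈ N) {g : GL ι F}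
    (hg : g ∈ H) : ∀ x ∈ N, g⁻¹ * x * g ∈ N := fun x hx => by
  simpa using hNn g⁻¹ (H.inv_mem hg) x hx

theorem span_translates {H : Subgroup (GL ι F)} (hirr : Irr4 H) {w : V} (hw : w ≠ 0) (v : V) :
    v ∈ Submodule.span F (Set.range fun g : H => ((g : GL ι F) : Mat) *ᵥ w) := by
  rcases hirr (Submodule.span F (Set.range fun g : H => ((g : GL ι F) : Mat) *ᵥ w)) (fun h hh u hu => by
      induction hu using Submodule.span_induction with
      | mem u hu =>
        obtain ⟨g, rfl⟩ := hu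
        refine Submodule.subset_span ⟨⟨h, hh⟩ * g, ?_⟩
        simp [Units.val_mul, ← Matrix.mulVec_mulVec]
      | zero => simp
      | add u u' _ _ h1 h1' => rw [Matrix.mulVec_add]; exact Submodule.add_mem _ h1 h1'
      | smul c u _ h1 => rw [Matrix.mulVec_smul]; exact Submodule.smul_mem _ c h1) with h | h
  · exfalso
    have : w ∈ Submodule.span F (Set.range fun g : H => ((g : GL ι F) : Mat) *ᵥ w) :=
      Submodule.subset_span ⟨1, by simp⟩
    rw [h] at this
    exact hw this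
  · rw [h]; trivial

theorem eigen_case (h2 : (2 : F) = 0) (h4 : 4 ≤ Fintype.card F) {H N : Subgroup (GL ι F)}
    (hH : Cfsg.Geo.IsMaximalIn Sp H) (hirr : Irr4 H) (hNH : N ≤ H)
    (hNn : ∀ g ∈ H, ∀ x ∈ N, g * x * g⁻¹ ∈ N) (hN1 : N ≠ ⊥) {w : V} (hw : w ≠ 0)
    (heig : ∀ x ∈ N, ∃ c : F, (x : Mat) *ᵥ w = c • w) : Out H := by
  classical
  have hNS : N ≤ Sp := hNH.trans hH.1.le
  choose! χ hχ using heig
  let Eig : (GL ι F → F) → Submodule F V := fun φ =>
    { carrier := {v | ∀ x ∈ N, (x : Mat) *ᵥ v = φ x • v}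
      add_mem' := fun {a b} ha hb x hx => by rw [Matrix.mulVec_add, ha x hx, hb x hx, smul_add]
      zero_mem' := fun x _ => by simp
      smul_mem' := fun c a ha x hx => by rw [Matrix.mulVec_smul, ha x hx, smul_comm] }
  have hfix : ∀ φ : GL ι F → F, (∀ x ∈ N, φ x = 1) → Eig φ = ⊥ := by
    intro φ hφ
    have hinv : Inv H (Eig φ) := fun g hg v hv x hx => by
      have h1 := hv _ (inv_conj hNn hg x hx)
      rw [hφ _ (inv_conj hNn hg x hx), one_smul, Units.val_mul, Units.val_mul, ← Matrix.mulVec_mulVec,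
        ← Matrix.mulVec_mulVec] at h1
      rw [hφ x hx, one_smul]
      conv_rhs => rw [← h1]
      rw [TransvMax.mulVec_inv_mulVec]
    refine (hirr _ hinv).resolve_right fun e => hN1 (eq_bot_iff.2 fun x hx => ?_)
    rw [Subgroup.mem_bot]
    refine TransvMax.gl_ext fun v => ?_
    have hv : v ∈ Eig φ := e ▸ Submodule.mem_top
    rw [hv x hx, hφ x hx, one_smul, Units.val_one, Matrix.one_mulVec]
  set E := Eig χ with hE
  have hwE : w ∈ E := hχ
  have hmov : ∀ g ∈ H, img g E = Eig fun x => χ (g⁻¹ * x * g) := by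
    intro g hg
    ext v
    rw [mem_img]
    constructor
    · intro h x hx
      have h1 := congrArg ((g : Mat) *ᵥ ·) (h _ (inv_conj hNn hg x hx))
      simp only [Matrix.mulVec_smul, Units.val_mul, ← Matrix.mulVec_mulVec, TransvMax.mulVec_inv_mulVec] at h1
      exact h1
    · intro h x hx
      have h1 := congrArg (((g⁻¹ : GL ι F) : Mat) *ᵥ ·) (h _ (hNn g hg x hx))
      simp only [show g⁻¹ * (g * x * g⁻¹) * g = x by group, Matrix.mulVec_smul, Units.val_mul,
        ← Matrix.mulVec_mulVec, TransvMax.inv_mulVec_mulVec] at h1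
      exact h1
  have hmul : ∀ φ ψ : GL ι F → F, ∀ u ∈ Eig φ, ∀ v ∈ Eig ψ, Cfsg.sympForm 2 F u v ≠ 0 →
      ∀ x ∈ N, φ x * ψ x = 1 := by
    intro φ ψ u hu v hv h x hx
    have h1 := mem_sp.1 (hNS hx) u v
    rw [hu x hx, hv x hx, f_smul_left, f_smul_right, ← mul_assoc] at h1
    exact mul_right_cancel₀ h (by rw [one_mul]; exact h1)
  have hsq : ∀ φ : GL ι F → F, (∀ x ∈ N, φ x * φ x = 1) → Eig φ = ⊥ := fun φ hφ => hfix φ fun x hx => by
    have h3 : (φ x - 1) * (φ x - 1) = 0 := by linear_combination hφ x hx - (φ x - 1) * h2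
    exact sub_eq_zero.1 (mul_self_eq_zero.1 h3)
  have hEts : TS E := by
    intro u hu v hv
    by_contra h
    exact h (by rw [show u = 0 from (Submodule.mem_bot F).1 (hsq χ (hmul χ χ u hu v hv h) ▸ hu), f_zero_left])
  have hEne : E ≠ ⊥ := fun e => hw ((Submodule.mem_bot F).1 (e ▸ hwE))
  -- the partner
  obtain ⟨h, hh, u, hu, v, hv, huv⟩ : ∃ h ∈ H, ∃ u ∈ E, ∃ v ∈ img h E, Cfsg.sympForm 2 F u v ≠ 0 := by
    by_contra hc
    push Not at hc
    obtain ⟨x, hx⟩ := f_nondeg hw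
    refine hx ?_
    rw [f_skew, neg_eq_zero]
    have hsp := span_translates hirr hw x
    clear hx
    induction hsp using Submodule.span_induction with
    | mem y hy =>
      obtain ⟨g, rfl⟩ := hy
      exact hc g g.2 w hwE _ (img_mem hwE)
    | zero => exact f_zero_right _
    | add y y' _ _ h1 h1' => rw [f_add_right, h1, h1', add_zero]
    | smul c y _ h1 => rw [f_smul_right, h1, mul_zero]
  have hpart : ∀ g ∈ H, ∀ a ∈ E, ∀ b ∈ img g E, Cfsg.sympForm 2 F a b ≠ 0 → img g E = Eig fun x => (χ x)⁻¹ := by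
    intro g hg a ha b hb hab
    rw [hmov g hg] at hb ⊢
    have h1 := hmul _ _ a ha b hb hab
    have h3 : ∀ x ∈ N, χ (g⁻¹ * x * g) = (χ x)⁻¹ := fun x hx => eq_inv_of_mul_eq_one_right (h1 x hx)
    ext z
    exact ⟨fun hz x hx => (hz x hx).trans (congrArg (· • z) (h3 x hx)),
      fun hz x hx => (hz x hx).trans (congrArg (· • z) (h3 x hx).symm)⟩
  set E' := img h E with hE'
  have hE'eq : E' = Eig fun x => (χ x)⁻¹ := hpart h hh u hu v hv huv
  have hE'ts : TS E' := hEts.img (hH.1.le hh)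
  have hEE : E ⊓ E' = ⊥ := by
    by_contra hc
    obtain ⟨z, hz, hz0⟩ := Submodule.exists_mem_ne_zero_of_ne_bot hc
    have hz' : z ∈ Eig fun x => (χ x)⁻¹ := hE'eq ▸ hz.2
    refine hEne (hsq χ fun x hx => ?_)
    have h1 := smul_left_injective F hz0 ((hz.1 x hx).symm.trans (hz' x hx))
    have hx0 : χ x ≠ 0 := fun e => hz0 (by
      have h2' := congrArg (((x⁻¹ : GL ι F) : Mat) *ᵥ ·) (hz.1 x hx)
      simpa [e, TransvMax.inv_mulVec_mulVec] using h2')
    conv_lhs => arg 2; rw [show χ x = (χ x)⁻¹ from h1]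
    exact mul_inv_cancel₀ hx0
  -- every translate is one of the two or orthogonal to both
  have htri : ∀ g ∈ H, img g E = E ∨ img g E = E' ∨
      ((∀ a ∈ E, ∀ b ∈ img g E, Cfsg.sympForm 2 F a b = 0) ∧ ∀ a ∈ E', ∀ b ∈ img g E, Cfsg.sympForm 2 F a b = 0) := by
    intro g hg
    by_cases h1 : ∃ a ∈ E, ∃ b ∈ img g E, Cfsg.sympForm 2 F a b ≠ 0
    · obtain ⟨a, ha, b, hb, hab⟩ := h1
      exact Or.inr (Or.inl ((hpart g hg a ha b hb hab).trans hE'eq.symm))
    by_cases h1' : ∃ a ∈ E', ∃ b ∈ img g E, Cfsg.sympForm 2 F a b ≠ 0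
    · obtain ⟨a, ha, b, hb, hab⟩ := h1'
      left
      rw [hE'eq] at ha
      rw [hmov g hg] at hb ⊢
      have h3 : ∀ x ∈ N, χ (g⁻¹ * x * g) = χ x := fun x hx => by
        have := eq_inv_of_mul_eq_one_right (hmul _ _ a ha b hb hab x hx)
        rwa [inv_inv] at this
      ext z
      exact ⟨fun hz x hx => (hz x hx).trans (congrArg (· • z) (h3 x hx)),
        fun hz x hx => (hz x hx).trans (congrArg (· • z) (h3 x hx).symm)⟩
    push Not at h1 h1'
    exact Or.inr (Or.inr ⟨h1, h1'⟩)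
  have hdE' : finrank F E' = finrank F E := finrank_img h E
  have hdle := hEts.finrank_le
  have hdpos : finrank F E ≠ 0 := fun e => hEne (Submodule.finrank_eq_zero.1 e)
  have himgE : ∀ g ∈ H, img g E' = img (g * h) E := fun g _ => (img_mul g h E).symm
  set P := E ⊔ E' with hP
  have hdP : finrank F P = finrank F E + finrank F E' := by
    have := Submodule.finrank_sup_add_finrank_inf_eq E E'
    rw [hEE, finrank_bot, add_zero] at this
    exact this
  have hortho : ∀ g ∈ H, (∀ a ∈ E, ∀ b ∈ img g E, Cfsg.sympForm 2 F a b = 0) →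
      (∀ a ∈ E', ∀ b ∈ img g E, Cfsg.sympForm 2 F a b = 0) → img g E ≤ perp P := by
    intro g _ h1 h1' b hb
    rw [mem_perp]
    intro p hp
    obtain ⟨a, ha, a', ha', rfl⟩ := Submodule.mem_sup.1 hp
    rw [f_add_left, h1 a ha b hb, h1' a' ha' b hb, add_zero]
  rcases show finrank F E = 1 ∨ finrank F E = 2 by omega with hd | hd
  · -- four lines
    have dP : finrank F P = 2 := by omega
    have hPnd : P ⊓ perp P = ⊥ := by
      refine (Submodule.eq_bot_iff _).2 fun z hz => ?_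
      obtain ⟨a, ha, b, hb, rfl⟩ := Submodule.mem_sup.1 hz.1
      have e1 := mem_perp.1 hz.2 u (Submodule.mem_sup_left hu)
      have e2 := mem_perp.1 hz.2 v (Submodule.mem_sup_right hv)
      have hu0 : u ≠ 0 := fun e => huv (by rw [e, f_zero_left])
      have hv0 : v ≠ 0 := fun e => huv (by rw [e, f_zero_right])
      obtain ⟨s, hs⟩ := exists_smul_eq_of_finrank_eq_one hd (x := (⟨u, hu⟩ : E))
        (fun e => hu0 (congrArg Subtype.val e)) ⟨a, ha⟩
      obtain ⟨t, ht⟩ := exists_smul_eq_of_finrank_eq_one (hdE'.trans hd) (x := (⟨v, hv⟩ : E'))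
        (fun e => hv0 (congrArg Subtype.val e)) ⟨b, hb⟩
      have hs' : s • u = a := congrArg Subtype.val hs
      have ht' : t • v = b := congrArg Subtype.val ht
      rw [← hs', ← ht', f_add_right, f_smul_right, f_smul_right, f_self, mul_zero, zero_add] at e1
      rw [← hs', ← ht', f_add_right, f_smul_right, f_smul_right, f_self, mul_zero, add_zero, f_symm h2 v u] at e2
      rw [← hs', ← ht', (mul_eq_zero.1 e1).resolve_right huv, (mul_eq_zero.1 e2).resolve_right huv, zero_smul,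
        zero_smul, add_zero]
    refine planes_case hH dP hPnd fun g hg => ?_
    have hgP : img g P = img g E ⊔ img g E' := Submodule.map_sup _ _ _
    have hgne : img g E ≠ img g E' := fun e => by
      have e1 : E = E' := Submodule.map_injective_of_injective (fun x y hxy => by
        have := congrArg (((g⁻¹ : GL ι F) : Mat) *ᵥ ·) hxy
        simpa [TransvMax.inv_mulVec_mulVec] using this) e
      rw [← e1, inf_idem] at hEE
      exact hEne hEE
    have hpair : ∃ a ∈ img g E, ∃ b ∈ img g E', Cfsg.sympForm 2 F a b ≠ 0 :=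
      ⟨_, img_mem hu, _, img_mem hv, by rw [mem_sp.1 (hH.1.le hg)]; exact huv⟩
    have hgh := htri (g * h) (H.mul_mem hg hh)
    rw [← himgE g hg] at hgh
    rcases htri g hg with e | e | ⟨o1, o2⟩
    · rcases hgh with e' | e' | ⟨o1, -⟩
      · exact absurd (e.trans e'.symm) hgne
      · exact Or.inl (by rw [hgP, e, e'])
      · obtain ⟨a, ha, b, hb, hab⟩ := hpair
        exact absurd (o1 a (e ▸ ha) b hb) hab
    · rcases hgh with e' | e' | ⟨-, o2⟩
      · exact Or.inl (by rw [hgP, e, e', sup_comm])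
      · exact absurd (e.trans e'.symm) hgne
      · obtain ⟨a, ha, b, hb, hab⟩ := hpair
        exact absurd (o2 a (e ▸ ha) b hb) hab
    · rcases hgh with e' | e' | ⟨p1, p2⟩
      · obtain ⟨a, ha, b, hb, hab⟩ := hpair
        exact absurd (by rw [f_symm h2]; exact o1 b (e' ▸ hb) a ha) hab
      · obtain ⟨a, ha, b, hb, hab⟩ := hpair
        exact absurd (by rw [f_symm h2]; exact o2 b (e' ▸ hb) a ha) hab
      · refine Or.inr (Submodule.eq_of_le_of_finrank_eq ?_ ?_)
        · rw [hgP]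
          refine sup_le (hortho g hg o1 o2) ?_
          rw [himgE g hg] at p1 p2 ⊢
          exact hortho (g * h) (H.mul_mem hg hh) p1 p2
        · rw [finrank_img, finrank_perp, dP]
  · -- two planes
    have hc := isCompl_of_two hd (hdE'.trans hd) hEE
    refine pair_case h2 h4 hH hc hEts hE'ts fun g hg => ?_
    have hno : ∀ k ∈ H, img k E = E ∨ img k E = E' := by
      intro k hk
      rcases htri k hk with e | e | ⟨o1, o2⟩
      · exact Or.inl e
      · exact Or.inr e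
      · exfalso
        have h1 := hortho k hk o1 o2
        rw [hP, hc.sup_eq_top] at h1
        have h3 := Submodule.finrank_mono h1
        rw [finrank_img, finrank_perp, finrank_top, finrank_V, hd] at h3
        omega
    have hgne : img g E ≠ img g E' := fun e => by
      have e1 : E = E' := Submodule.map_injective_of_injective (fun x y hxy => by
        have := congrArg (((g⁻¹ : GL ι F) : Mat) *ᵥ ·) hxy
        simpa [TransvMax.inv_mulVec_mulVec] using this) e
      rw [← e1, inf_idem] at hEE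
      exact hEne hEE
    have hgh := hno (g * h) (H.mul_mem hg hh)
    rw [← himgE g hg] at hgh
    rcases hno g hg with e | e <;> rcases hgh with e' | e'
    · exact absurd (e.trans e'.symm) hgne
    · exact Or.inl ⟨e, e'⟩
    · exact Or.inr ⟨e, e'⟩
    · exact absurd (e.trans e'.symm) hgne

/-- A normal subgroup without common eigenvector that is reducible. -/
theorem planes_normal_case (h2 : (2 : F) = 0) (h4 : 4 ≤ Fintype.card F) {H N : Subgroup (GL ι F)}
    (hH : Cfsg.Geo.IsMaximalIn Sp H) (hirr : Irr4 H) (hNH : N ≤ H) (hNn : ∀ g ∈ H, ∀ x ∈ N, g * x * g⁻¹ ∈ N)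
    (hne : NoEig N) (hred : ¬ Irr4 N) : Out H := by
  classical
  have hNS : N ≤ Sp := hNH.trans hH.1.le
  unfold Irr4 at hred
  push Not at hred
  obtain ⟨W, hW, hW0, hW1⟩ := hred
  have dW := hne.finrank_two hNS hW hW0 hW1
  have himg : ∀ g ∈ H, ∀ U : Submodule F V, Inv N U → Inv N (img g U) := fun g hg U hU => hU.img (inv_conj hNn hg)
  have hts : ∀ U : Submodule F V, Inv N U → finrank F U = 2 → TS U → Out H := by
    intro U hU dU hUts
    obtain ⟨g, hg, hgU⟩ : ∃ g ∈ H, img g U ≠ U := by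
      by_contra hc
      push Not at hc
      rcases hirr U (fun g hg u hu => hc g hg ▸ img_mem hu) with h | h
      · rw [h, finrank_bot] at dU; omega
      · rw [h, finrank_top, finrank_V] at dU; omega
    have dU' : finrank F (img g U) = 2 := (finrank_img g U).trans dU
    have hc := isCompl_of_two dU dU' (hne.inf_bot hU (himg g hg U hU) dU dU' (Ne.symm hgU))
    obtain ⟨Q, hQ, hQi⟩ := pair_quad h2 hc hUts (hUts.img (hH.1.le hg))
    refine quad_of_normal h2 h4 hH hNS hNn (no_fixed_of_noEig hne) hQ fun x hx => hQi x (hNS hx) (Or.inl ⟨?_, ?_⟩)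
    · exact Submodule.eq_of_le_of_finrank_eq
        (by rintro _ ⟨z, hz, rfl⟩; rw [Matrix.toLin'_apply]; exact hU x hx z hz) (finrank_img x U)
    · exact Submodule.eq_of_le_of_finrank_eq
        (by rintro _ ⟨z, hz, rfl⟩; rw [Matrix.toLin'_apply]; exact himg g hg U hU x hx z hz) (finrank_img x _)
  rcases ts_or_nondeg hne hNS hW dW with h | h
  · exact hts W hW dW h
  by_cases h3 : ∃ g ∈ H, img g W ≠ W ∧ img g W ≠ perp W
  · obtain ⟨g, hg, h31, h32⟩ := h3
    obtain ⟨U, hU, dU, hUts⟩ := exists_ts_of_third h2 hne hNS hW dW h (himg g hg W hW)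
      ((finrank_img g W).trans dW) h31 h32
    exact hts U hU dU hUts
  · push Not at h3
    exact planes_case hH dW h fun g hg => or_iff_not_imp_left.2 (h3 g hg)

/-- The matrices commuting with a group. -/
def comm4 (N : Subgroup (GL ι F)) : Subalgebra F Mat := Subalgebra.centralizer F (Cfsg.Geo.matrixSet N)

theorem mem_comm4 {N : Subgroup (GL ι F)} {M : Mat} :
    M ∈ comm4 N ↔ ∀ g ∈ N, (g : Mat) * M = M * (g : Mat) := by
  rw [comm4, Subalgebra.mem_centralizer_iff]
  exact ⟨fun h g hg => h _ ⟨g, hg, rfl⟩, by rintro h _ ⟨g, hg, rfl⟩; exact h g hg⟩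

/-- The adjoint of a matrix. -/
noncomputable def adj4 (M : Mat) : Mat := (Matrix.J (Fin 2) F)⁻¹ * Mᵀ * Matrix.J (Fin 2) F

theorem adj4_spec (M : Mat) (u v : V) :
    Cfsg.sympForm 2 F (M *ᵥ u) v = Cfsg.sympForm 2 F u (adj4 M *ᵥ v) := by
  have hJ : IsUnit (Matrix.J (Fin 2) F).det := Matrix.isUnit_det_J (Fin 2) F
  show (M *ᵥ u) ⬝ᵥ (Matrix.J (Fin 2) F *ᵥ v) = u ⬝ᵥ (Matrix.J (Fin 2) F *ᵥ (adj4 M *ᵥ v))
  rw [Matrix.mulVec_mulVec, adj4, ← mul_assoc, ← mul_assoc, Matrix.mul_nonsing_inv _ hJ, one_mul,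
    ← Matrix.mulVec_mulVec, Matrix.dotProduct_mulVec u Mᵀ, Matrix.vecMul_transpose]

theorem eq_of_form_right {M M' : Mat}
    (h : ∀ u v, Cfsg.sympForm 2 F u (M *ᵥ v) = Cfsg.sympForm 2 F u (M' *ᵥ v)) : M = M' := by
  refine Matrix.ext_iff_mulVec.2 fun v => sub_eq_zero.1 (by_contra fun h0 => ?_)
  obtain ⟨x, hx⟩ := f_nondeg h0
  apply hx
  have := h x v
  simp only [form_eq] at this ⊢
  rw [map_sub, this, sub_self]

theorem adj4_mem {N : Subgroup (GL ι F)} (hN : N ≤ Sp) {M : Mat} (hM : M ∈ comm4 N) : adj4 M ∈ comm4 N := by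
  rw [mem_comm4] at hM ⊢
  intro g hg
  refine eq_of_form_right fun u v => ?_
  rw [← Matrix.mulVec_mulVec, ← Matrix.mulVec_mulVec, ← adj4_spec]
  obtain ⟨u, rfl⟩ : ∃ u', (g : Mat) *ᵥ u' = u := ⟨_, TransvMax.mulVec_inv_mulVec g u⟩
  rw [mem_sp.1 (hN hg), ← adj4_spec, Matrix.mulVec_mulVec, ← hM g hg, ← Matrix.mulVec_mulVec, mem_sp.1 (hN hg)]

theorem adj4_mul (M M' : Mat) : adj4 (M * M') = adj4 M' * adj4 M :=
  eq_of_form_right fun u v => by
    rw [← adj4_spec, ← Matrix.mulVec_mulVec, ← Matrix.mulVec_mulVec, adj4_spec, adj4_spec]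

theorem adj4_one : adj4 (1 : Mat) = 1 :=
  eq_of_form_right fun u v => by rw [← adj4_spec, Matrix.one_mulVec, Matrix.one_mulVec]

theorem adj4_pow (M : Mat) (n : ℕ) : adj4 (M ^ n) = adj4 M ^ n := by
  induction n with
  | zero => simp [adj4_one]
  | succ n ih => rw [pow_succ, adj4_mul, ih, ← pow_succ']

/-- An irreducible normal subgroup has scalar commutant, or the group normalises a quadratic field. -/
theorem commutant_case (h2 : (2 : F) = 0) (h4 : 4 ≤ Fintype.card F) {H N : Subgroup (GL ι F)}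
    (hH : Cfsg.Geo.IsMaximalIn Sp H) (hNH : N ≤ H) (hNn : ∀ g ∈ H, ∀ x ∈ N, g * x * g⁻¹ ∈ N) (hN : Irr4 N) :
    ScalarCommutant N ∨ Out H := by
  classical
  have hNS : N ≤ Sp := hNH.trans hH.1.le
  set C := comm4 N with hC
  have hker : ∀ M ∈ C, M ≠ 0 → ∀ v : V, M *ᵥ v = 0 → v = 0 := by
    intro M hM hM0 v hv
    rcases hN (LinearMap.ker (Matrix.toLin' M)) fun g hg w hw => by
        rw [LinearMap.mem_ker, Matrix.toLin'_apply] at hw ⊢
        rw [Matrix.mulVec_mulVec, ← mem_comm4.1 hM g hg, ← Matrix.mulVec_mulVec, hw, Matrix.mulVec_zero] with h | h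
    · have : v ∈ LinearMap.ker (Matrix.toLin' M) := by simpa using hv
      rwa [h, Submodule.mem_bot] at this
    · refine absurd (Matrix.toLin'.injective ?_) hM0
      rw [LinearMap.ker_eq_top.1 h, map_zero]
  haveI : NoZeroDivisors C := ⟨fun {a b} hab => or_iff_not_imp_left.2 fun ha => Subtype.ext
    (Matrix.ext_iff_mulVec.2 fun v => by
      show (b : Mat) *ᵥ v = (0 : Mat) *ᵥ v
      rw [Matrix.zero_mulVec]
      refine hker a a.2 (fun e => ha (Subtype.ext e)) _ ?_
      rw [Matrix.mulVec_mulVec]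
      show ((a * b : C) : Mat) *ᵥ v = 0
      rw [hab]
      exact Matrix.zero_mulVec v)⟩
  haveI : Nontrivial C := ⟨⟨0, 1, fun e => zero_ne_one (congrArg Subtype.val e)⟩⟩
  haveI : IsDomain C := NoZeroDivisors.to_isDomain _
  letI : Field C := (Finite.isDomain_to_isField C).toField
  haveI : Fintype C := Fintype.ofFinite C
  let ρ : C →+* Module.End F V :=
    ((Matrix.toLinAlgEquiv' : Mat ≃ₐ[F] Module.End F V).toAlgHom.comp C.val).toRingHom
  letI : Module C V := Module.compHom V ρ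
  have hmul : finrank F C * finrank C V = 4 := by
    haveI : Module.Finite C V := Module.Finite.of_finite
    have e1 : Nat.card V = Nat.card C ^ finrank C V := Module.natCard_eq_pow_finrank
    have e0 : Nat.card V = Nat.card F ^ finrank F V := Module.natCard_eq_pow_finrank
    have e2 : Nat.card C = Nat.card F ^ finrank F C := Module.natCard_eq_pow_finrank
    rw [e0, finrank_V, e2, ← pow_mul] at e1
    exact (Nat.pow_right_injective (Finite.one_lt_card (α := F)) e1).symm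
  have hd : finrank F C = 1 ∨ finrank F C = 2 ∨ finrank F C = 4 := by
    have h1 : finrank F C ∣ 4 := ⟨_, hmul.symm⟩
    have h3 := Nat.le_of_dvd (by norm_num) h1
    have h5 : 0 < finrank F C := Module.finrank_pos
    interval_cases finrank F C <;> simp_all
  have hnormC : ∀ g ∈ H, ∀ k ∈ C, (g : Mat) * k * ((g⁻¹ : GL ι F) : Mat) ∈ C := by
    intro g hg k hk
    rw [mem_comm4]
    intro x hx
    have h1 := mem_comm4.1 hk _ (inv_conj hNn hg x hx)
    have e1 : (x : Mat) * (g : Mat) = (g : Mat) * ((g⁻¹ * x * g : GL ι F) : Mat) := by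
      rw [← Units.val_mul, ← Units.val_mul]; congr 1; group
    have e2 : ((g⁻¹ : GL ι F) : Mat) * (x : Mat) = ((g⁻¹ * x * g : GL ι F) : Mat) * ((g⁻¹ : GL ι F) : Mat) := by
      rw [← Units.val_mul, ← Units.val_mul]; congr 1; group
    rw [mul_assoc ((g : Mat) * k), e2, ← mul_assoc, ← mul_assoc, e1, mul_assoc (g : Mat), h1]
    simp only [mul_assoc]
  rcases hd with hd | hd | hd
  · left
    intro M hM
    obtain ⟨c, hc⟩ := exists_smul_eq_of_finrank_eq_one hd (x := (1 : C)) one_ne_zero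
      ⟨M, mem_comm4.2 fun g hg => (hM g hg).symm⟩
    exact ⟨c, (congrArg Subtype.val hc).symm⟩
  · right
    refine field_case h2 h4 hH ⟨fun x hx y hy => congrArg Subtype.val (mul_comm (⟨x, hx⟩ : C) ⟨y, hy⟩),
      fun x hx hx0 => ?_, hd⟩ (fun k hk => ⟨_, adj4_mem hNS hk, adj4_spec k⟩) hnormC
    exact ⟨((⟨x, hx⟩ : C)⁻¹ : C).1, SetLike.coe_mem _,
      congrArg Subtype.val (mul_inv_cancel₀ (fun e => hx0 (congrArg Subtype.val e) : (⟨x, hx⟩ : C) ≠ 0))⟩
  · right
    let φ := (FiniteField.frobeniusAlgEquivOfAlgebraic F C) ^ 2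
    set K1 : IntermediateField F C := IntermediateField.fixedField (Subgroup.zpowers φ)
    have hφ : ∀ x : C, φ x = x ^ (Fintype.card F ^ 2) := fun x => by
      show FiniteField.frobeniusAlgEquivOfAlgebraic F C (FiniteField.frobeniusAlgEquivOfAlgebraic F C x) = _
      rw [FiniteField.coe_frobeniusAlgEquivOfAlgebraic]
      show (x ^ _) ^ _ = _
      rw [← pow_mul, ← sq]
    have hmemK : ∀ x : C, x ∈ K1 ↔ x ^ (Fintype.card F ^ 2) = x := by
      intro x
      rw [← hφ]
      constructor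
      · exact fun h => h ⟨φ, Subgroup.mem_zpowers φ⟩
      · exact fun h f => Subgroup.zpowers_le.2 (show φ ∈ MulAction.stabilizer (C ≃ₐ[F] C) x from h) f.2
    have hK1 : finrank F K1 = 2 := by
      have h1 : finrank K1 C = 2 := by
        rw [IntermediateField.finrank_fixedField_eq_card, Nat.card_zpowers, orderOf_pow,
          FiniteField.orderOf_frobeniusAlgEquivOfAlgebraic, hd]
        norm_num
      have h3 := Module.finrank_mul_finrank F K1 C
      rw [h1, hd] at h3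
      omega
    set K : Subalgebra F Mat := K1.toSubalgebra.map C.val with hK
    have hfinK : finrank F K = 2 := by
      refine Eq.trans ?_ hK1
      exact (Subalgebra.equivMapOfInjective K1.toSubalgebra C.val Subtype.val_injective).toLinearEquiv.finrank_eq.symm
    have hmemK' : ∀ {M : Mat}, M ∈ K ↔ M ∈ C ∧ M ^ (Fintype.card F ^ 2) = M := by
      intro M
      constructor
      · rintro ⟨x, hx, rfl⟩
        exact ⟨x.2, by simpa using congrArg Subtype.val ((hmemK x).1 hx)⟩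
      · rintro ⟨hM, h⟩
        exact ⟨⟨M, hM⟩, (hmemK _).2 (Subtype.ext (by simpa using h)), rfl⟩
    refine field_case h2 h4 hH (K := K) ⟨?_, ?_, hfinK⟩ (fun k hk => ⟨adj4 k, ?_, adj4_spec k⟩) fun g hg k hk => ?_
    · rintro _ ⟨x, -, rfl⟩ _ ⟨y, -, rfl⟩
      exact congrArg Subtype.val (mul_comm x y)
    · rintro _ ⟨x, hx, rfl⟩ hx0
      refine ⟨_, ⟨x⁻¹, K1.inv_mem hx, rfl⟩, ?_⟩
      exact congrArg Subtype.val (mul_inv_cancel₀ (fun e => hx0 (by simp [e]) : x ≠ 0))
    · rw [hmemK'] at hk ⊢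
      exact ⟨adj4_mem hNS hk.1, by rw [← adj4_pow, hk.2]⟩
    · rw [hmemK'] at hk ⊢
      exact ⟨hnormC g hg k hk.1, by rw [Units.conj_pow, hk.2]⟩

/-- A proper normal subgroup of an absolutely irreducible group fixes a quadratic form. -/
theorem product_quad (h2 : (2 : F) = 0) {H N : Subgroup (GL ι F)} (hH : H ≤ Sp) (hNH : N ≤ H)
    (hNn : ∀ g ∈ H, ∀ x ∈ N, g * x * g⁻¹ ∈ N) (hN : Irr4 N) (hsc : ScalarCommutant N)
    (hperf : ⁅N, N⁆ = N) (hnab : ¬ ∀ x ∈ N, ∀ y ∈ N, x * y = y * x)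
    (hmin : ∀ R : Subgroup (GL ι F), R ≤ N → (∀ g ∈ H, ∀ x ∈ R, g * x * g⁻¹ ∈ R) → R = ⊥ ∨ R = N)
    {T : Subgroup (GL ι F)} (hTN : T ≤ N) (hTn : ∀ g ∈ N, ∀ x ∈ T, g * x * g⁻¹ ∈ T) (hT1 : T ≠ ⊥) (hT2 : T ≠ N) :
    ∃ Q : V → F, PolQ Q ∧ ∀ x ∈ N, ∀ v, Q ((x : Mat) *ᵥ v) = Q v := by
  classical
  -- take a minimal one
  let Good : ℕ → Prop := fun n => ∃ R : Subgroup (GL ι F), Nat.card R = n ∧ R ≤ N ∧
    (∀ g ∈ N, ∀ x ∈ R, g * x * g⁻¹ ∈ R) ∧ R ≠ ⊥ ∧ R ≠ N
  have hex : ∃ n, Good n := ⟨_, T, rfl, hTN, hTn, hT1, hT2⟩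
  obtain ⟨R, hRc, hRN, hRn, hR1, hR2⟩ := Nat.find_spec hex
  have hRmin : ∀ S : Subgroup (GL ι F), S ≤ R → (∀ g ∈ N, ∀ x ∈ S, g * x * g⁻¹ ∈ S) → S ≠ ⊥ → S = R := by
    intro S hS hSn hS1
    refine Subgroup.eq_of_le_of_card_ge hS ?_
    rw [hRc]
    exact Nat.find_min' hex ⟨S, rfl, hS.trans hRN, hSn, hS1, fun e => hR2 (le_antisymm hRN (e ▸ hS))⟩
  have hNS : N ≤ Sp := hNH.trans hH
  have hRS : R ≤ Sp := hRN.trans hNS
  set conjR : GL ι F → Subgroup (GL ι F) := fun g => R.map (MulAut.conj g).toMonoidHom with hconj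
  have hconjN : ∀ g ∈ H, conjR g ≤ N := by
    rintro g hg _ ⟨x, hx, rfl⟩
    exact hNn g hg x (hRN hx)
  have hconjn : ∀ g ∈ H, ∀ a ∈ N, ∀ x ∈ conjR g, a * x * a⁻¹ ∈ conjR g := by
    rintro g hg a ha _ ⟨x, hx, rfl⟩
    refine ⟨g⁻¹ * a * g * x * (g⁻¹ * a * g)⁻¹, hRn _ (inv_conj hNn hg a ha) x hx, ?_⟩
    show g * (g⁻¹ * a * g * x * (g⁻¹ * a * g)⁻¹) * g⁻¹ = a * (g * x * g⁻¹) * a⁻¹
    group
  have hcard : ∀ g, Nat.card (conjR g) = Nat.card R := fun g =>
    Subgroup.card_map_of_injective (MulAut.conj g).injective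
  -- distinct conjugates commute
  have hcomm : ∀ g ∈ H, conjR g ≠ R → ∀ x ∈ R, ∀ y ∈ conjR g, x * y = y * x := by
    intro g hg hne x hx y hy
    have hbot : R ⊓ conjR g = ⊥ := by
      by_contra h0
      have h1 := hRmin _ inf_le_left (fun a ha z hz => ⟨hRn a ha z hz.1, hconjn g hg a ha z hz.2⟩) h0
      exact hne (Subgroup.eq_of_le_of_card_ge (inf_eq_left.1 h1) (by rw [hcard])).symm
    have h1 : x * y * x⁻¹ * y⁻¹ ∈ R ⊓ conjR g := by
      refine ⟨?_, (conjR g).mul_mem (hconjn g hg x (hRN hx) y hy) ((conjR g).inv_mem hy)⟩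
      rw [show x * y * x⁻¹ * y⁻¹ = x * (y * x⁻¹ * y⁻¹) by group]
      exact R.mul_mem hx (hRn y (hconjN g hg hy) _ (R.inv_mem hx))
    rw [hbot, Subgroup.mem_bot] at h1
    calc x * y = (x * y * x⁻¹ * y⁻¹) * (y * x) := by group
      _ = y * x := by rw [h1, one_mul]
  set S := ⨆ g : H, conjR g with hS
  have hSN : S = N := by
    refine (hmin S (iSup_le fun g => hconjN g g.2) fun a ha x hx => ?_).resolve_left fun e => hR1 ?_
    · have h1 : S.map (MulAut.conj a).toMonoidHom ≤ S := by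
        rw [hS, Subgroup.map_iSup]
        refine iSup_le fun g => ?_
        refine le_trans (le_of_eq ?_) (le_iSup (fun g : H => conjR g) (⟨a, ha⟩ * g))
        rw [hconj, Subgroup.map_map]
        congr 1
        ext z
        simp [mul_assoc]
      exact h1 ⟨x, hx, rfl⟩
    · have h1 : conjR ((1 : H) : GL ι F) ≤ S := le_iSup (fun g : H => conjR g) 1
      rw [e] at h1
      refine eq_bot_iff.2 fun x hx => h1 ⟨x, hx, ?_⟩
      simp
  obtain ⟨g₁, hg₁, hg₁ne⟩ : ∃ g ∈ H, conjR g ≠ R := by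
    by_contra hc
    push Not at hc
    refine hR2 (le_antisymm hRN (hSN ▸ iSup_le fun g => ?_))
    rw [hc g g.2]
  have hRnc : ¬ ∀ x ∈ R, ∀ y ∈ R, x * y = y * x := by
    intro habel
    apply hnab
    have hcc : ∀ g k : H, ∀ x ∈ conjR g, ∀ y ∈ conjR k, x * y = y * x := by
      intro g k x hx y hy
      obtain ⟨a, ha, rfl⟩ := hx
      obtain ⟨b, hb, rfl⟩ := hy
      have hm : (g : GL ι F)⁻¹ * (k * b * (k : GL ι F)⁻¹) * g ∈ conjR ((g : GL ι F)⁻¹ * k) :=
        ⟨b, hb, by simp [mul_assoc]⟩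
      have hab : a * ((g : GL ι F)⁻¹ * (k * b * (k : GL ι F)⁻¹) * g) =
          ((g : GL ι F)⁻¹ * (k * b * (k : GL ι F)⁻¹) * g) * a := by
        by_cases he : conjR ((g : GL ι F)⁻¹ * k) = R
        · exact habel a ha _ (he ▸ hm)
        · exact hcomm _ (H.mul_mem (H.inv_mem g.2) k.2) he a ha _ hm
      have := congrArg (fun z => (g : GL ι F) * z * (g : GL ι F)⁻¹) hab
      simpa [mul_assoc] using this
    intro x hx y hy
    rw [← hSN] at hx hy
    have h1 : ∀ g : H, S ≤ Subgroup.centralizer (conjR g : Set (GL ι F)) := fun g => iSup_le fun k b hb =>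
      Subgroup.mem_centralizer_iff.2 fun a ha => hcc g k a ha b hb
    have h3 : S ≤ Subgroup.centralizer (S : Set (GL ι F)) := iSup_le fun g a ha =>
      Subgroup.mem_centralizer_iff.2 fun b hb => (Subgroup.mem_centralizer_iff.1 (h1 g hb) a ha).symm
    exact (Subgroup.mem_centralizer_iff.1 (h3 hx) y hy).symm
  have hRne : NoEig R := by
    intro w hw heig
    refine hRnc fun x hx y hy => TransvMax.gl_ext fun v => ?_
    have hE : ∀ a ∈ N, ∀ z ∈ R, ∃ c : F, (z : Mat) *ᵥ ((a : Mat) *ᵥ w) = c • ((a : Mat) *ᵥ w) := by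
      intro a ha z hz
      obtain ⟨c, hc⟩ := heig _ (hRn a⁻¹ (N.inv_mem ha) z hz)
      refine ⟨c, ?_⟩
      rw [inv_inv] at hc
      rw [← Matrix.mulVec_smul, ← hc, Units.val_mul, Units.val_mul, ← Matrix.mulVec_mulVec, ← Matrix.mulVec_mulVec,
        TransvMax.mulVec_inv_mulVec]
    have hsp := span_translates hN hw v
    induction hsp using Submodule.span_induction with
    | mem u hu =>
      obtain ⟨a, rfl⟩ := hu
      obtain ⟨c, hc⟩ := hE a a.2 x hx
      obtain ⟨d, hd⟩ := hE a a.2 y hy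
      simp only [Units.val_mul, ← Matrix.mulVec_mulVec, hc, hd, Matrix.mulVec_smul, smul_smul, mul_comm c d]
    | zero => simp
    | add u u' _ _ e e' => rw [Matrix.mulVec_add, Matrix.mulVec_add, e, e']
    | smul c u _ e => rw [Matrix.mulVec_smul, Matrix.mulVec_smul, e]
  have hRred : ¬ Irr4 R := by
    intro hRi
    refine hRnc fun x hx y hy => ?_
    -- the commutant of an irreducible group is commutative and contains a conjugate
    have hab : ∀ a ∈ conjR g₁, ∀ b ∈ conjR g₁, a * b = b * a := by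
      haveI : NoZeroDivisors (comm4 R) := ⟨fun {p q} hpq => or_iff_not_imp_left.2 fun hp => Subtype.ext
        (Matrix.ext_iff_mulVec.2 fun v => by
          show (q : Mat) *ᵥ v = (0 : Mat) *ᵥ v
          rw [Matrix.zero_mulVec]
          rcases hRi (LinearMap.ker (Matrix.toLin' (p : Mat))) fun g hg w hw => by
              rw [LinearMap.mem_ker, Matrix.toLin'_apply] at hw ⊢
              rw [Matrix.mulVec_mulVec, ← mem_comm4.1 p.2 g hg, ← Matrix.mulVec_mulVec, hw, Matrix.mulVec_zero]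
            with h | h
          · have : (q : Mat) *ᵥ v ∈ LinearMap.ker (Matrix.toLin' (p : Mat)) := by
              rw [LinearMap.mem_ker, Matrix.toLin'_apply, Matrix.mulVec_mulVec]
              show ((p * q : comm4 R) : Mat) *ᵥ v = 0
              rw [hpq]
              exact Matrix.zero_mulVec v
            rwa [h, Submodule.mem_bot] at this
          · refine absurd (Subtype.ext (Matrix.toLin'.injective ?_)) hp
            rw [LinearMap.ker_eq_top.1 h]
            simp)⟩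
      haveI : Nontrivial (comm4 R) := ⟨⟨0, 1, fun e => zero_ne_one (congrArg Subtype.val e)⟩⟩
      haveI : IsDomain (comm4 R) := NoZeroDivisors.to_isDomain _
      intro a ha b hb
      have hmem : ∀ z ∈ conjR g₁, (z : Mat) ∈ comm4 R := fun z hz => mem_comm4.2 fun g hg => by
        rw [← Units.val_mul, ← Units.val_mul, hcomm g₁ hg₁ hg₁ne g hg z hz]
      exact Units.ext (congrArg Subtype.val
        ((Finite.isDomain_to_isField (comm4 R)).mul_comm ⟨_, hmem a ha⟩ ⟨_, hmem b hb⟩))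
    have := hab _ ⟨x, hx, rfl⟩ _ ⟨y, hy, rfl⟩
    exact (MulAut.conj g₁).injective (by simpa using this)
  unfold Irr4 at hRred
  push Not at hRred
  obtain ⟨W, hW, hW0, hW1⟩ := hRred
  have dW := hRne.finrank_two hRS hW hW0 hW1
  have himg : ∀ a ∈ N, ∀ U : Submodule F V, Inv R U → Inv R (img a U) := fun a ha U hU =>
    hU.img fun x hx => by simpa using hRn a⁻¹ (N.inv_mem ha) x hx
  obtain ⟨U, hU, dU, hUts⟩ : ∃ U : Submodule F V, Inv R U ∧ finrank F U = 2 ∧ TS U := by
    rcases ts_or_nondeg hRne hRS hW dW with h | h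
    · exact ⟨W, hW, dW, h⟩
    by_cases h3 : ∃ a ∈ N, img a W ≠ W ∧ img a W ≠ perp W
    · obtain ⟨a, ha, h31, h32⟩ := h3
      exact exists_ts_of_third h2 hRne hRS hW dW h (himg a ha W hW) ((finrank_img a W).trans dW) h31 h32
    exfalso
    push Not at h3
    let A : Subgroup (GL ι F) :=
      { carrier := {a | a ∈ N ∧ img a W = W}
        mul_mem' := fun {a b} ha hb => ⟨N.mul_mem ha.1 hb.1, by rw [img_mul, hb.2, ha.2]⟩
        one_mem' := ⟨N.one_mem, img_one W⟩
        inv_mem' := fun {a} ha => ⟨N.inv_mem ha.1, by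
          conv_lhs => rw [← ha.2]
          rw [← img_mul, inv_mul_cancel, img_one]⟩ }
    have hAN : N ≤ A := by
      conv_lhs => rw [← hperf]
      refine Subgroup.commutator_le.2 fun a ha b hb => ⟨?_, ?_⟩
      · exact N.mul_mem (N.mul_mem (N.mul_mem ha hb) (N.inv_mem ha)) (N.inv_mem hb)
      have hflip : ∀ c ∈ N, (img c W = W ∧ img c⁻¹ W = W ∧ img c (perp W) = perp W ∧ img c⁻¹ (perp W) = perp W) ∨
          (img c W = perp W ∧ img c⁻¹ W = perp W ∧ img c (perp W) = W ∧ img c⁻¹ (perp W) = W) := by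
        intro c hc
        by_cases e : img c W = W
        · have e' : img c⁻¹ W = W := by
            conv_lhs => rw [← e]
            rw [← img_mul, inv_mul_cancel, img_one]
          exact Or.inl ⟨e, e', by rw [img_perp (hNS hc), e], by rw [img_perp (hNS (N.inv_mem hc)), e']⟩
        · have e1 := h3 c hc e
          have e2 : img c (perp W) = W := by rw [img_perp (hNS hc), e1, perp_perp]
          have e3 : img c⁻¹ W = perp W := by
            conv_lhs => rw [← e2]
            rw [← img_mul, inv_mul_cancel, img_one]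
          exact Or.inr ⟨e1, e3, e2, by rw [img_perp (hNS (N.inv_mem hc)), e3, perp_perp]⟩
      show img ⁅a, b⁆ W = W
      rw [commutatorElement_def, img_mul, img_mul, img_mul]
      rcases hflip a ha with ⟨a1, a2, a3, a4⟩ | ⟨a1, a2, a3, a4⟩ <;>
        rcases hflip b hb with ⟨b1, b2, b3, b4⟩ | ⟨b1, b2, b3, b4⟩ <;>
        simp only [a1, a2, a3, a4, b1, b2, b3, b4]
    rcases hN W (fun a ha z hz => (hAN ha).2 ▸ img_mem hz) with e | e
    · exact hW0 e
    · exact hW1 e
  obtain ⟨a, ha, haU⟩ : ∃ a ∈ N, img a U ≠ U := by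
    by_contra hc
    push Not at hc
    rcases hN U (fun g hg u hu => hc g hg ▸ img_mem hu) with h | h
    · rw [h, finrank_bot] at dU; omega
    · rw [h, finrank_top, finrank_V] at dU; omega
  have dU' : finrank F (img a U) = 2 := (finrank_img a U).trans dU
  have hc := isCompl_of_two dU dU' (hRne.inf_bot hU (himg a ha U hU) dU dU' (Ne.symm haU))
  obtain ⟨Q, hQ, hQi⟩ := pair_quad h2 hc hUts (hUts.img (hNS ha))
  have hQR : ∀ x ∈ R, ∀ v, Q ((x : Mat) *ᵥ v) = Q v := fun x hx => hQi x (hRS hx) (Or.inl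
    ⟨Submodule.eq_of_le_of_finrank_eq
      (by rintro _ ⟨z, hz, rfl⟩; rw [Matrix.toLin'_apply]; exact hU x hx z hz) (finrank_img x U),
    Submodule.eq_of_le_of_finrank_eq
      (by rintro _ ⟨z, hz, rfl⟩; rw [Matrix.toLin'_apply]; exact himg a ha U hU x hx z hz) (finrank_img x _)⟩)
  refine ⟨Q, hQ, fun x hx v => ?_⟩
  let A : Subgroup (GL ι F) :=
    { carrier := {x | x ∈ N ∧ ∀ v, Q ((x : Mat) *ᵥ v) = Q v}
      mul_mem' := fun {a b} ha hb => ⟨N.mul_mem ha.1 hb.1, fun v => by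
        rw [Units.val_mul, ← Matrix.mulVec_mulVec, ha.2, hb.2]⟩
      one_mem' := ⟨N.one_mem, fun v => by simp⟩
      inv_mem' := fun {a} ha => ⟨N.inv_mem ha.1, fun v => by
        conv_rhs => rw [← TransvMax.mulVec_inv_mulVec a v, ha.2]⟩ }
  have hle : S ≤ A := iSup_le fun g y hy => by
    refine ⟨hconjN g g.2 hy, ?_⟩
    by_cases he : conjR g = R
    · exact hQR y (he ▸ hy)
    · intro v
      have hys : y ∈ Sp := hNS (hconjN g g.2 hy)
      refine congrFun (polQ_unique h2 hRS (no_fixed_of_noEig hRne) (polQ_comp hQ hys) hQ (fun z hz w => ?_) hQR) v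
      show Q ((y : Mat) *ᵥ ((z : Mat) *ᵥ w)) = Q ((y : Mat) *ᵥ w)
      rw [Matrix.mulVec_mulVec, ← Units.val_mul, ← hcomm g g.2 he z hz y hy, Units.val_mul,
        ← Matrix.mulVec_mulVec, hQR z hz]
  exact (hle (hSN.symm ▸ hx)).2 v

theorem scalars_inf_sp (h2 : (2 : F) = 0) {g : GL ι F} (hg : g ∈ Cfsg.Geo.scalars ι F) (hg' : g ∈ Sp) : g = 1 := by
  obtain ⟨c, hc⟩ := (Cfsg.Geo.mem_scalars_iff g).1 hg
  obtain ⟨x, hx⟩ := f_nondeg (v := Pi.single (Sum.inl 0) (1 : F)) fun e => by simpa using congrFun e (Sum.inl 0)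
  have h1 := mem_sp.1 hg' x (Pi.single (Sum.inl 0) (1 : F))
  rw [hc, Matrix.smul_mulVec, Matrix.smul_mulVec, Matrix.one_mulVec, Matrix.one_mulVec, f_smul_left,
    f_smul_right, ← mul_assoc] at h1
  have h3 : (c : F) * c = 1 := mul_right_cancel₀ hx (by rw [one_mul]; exact h1)
  have h5 : ((c : F) - 1) * ((c : F) - 1) = 0 := by linear_combination h3 - ((c : F) - 1) * h2
  refine Units.ext ?_
  rw [hc, sub_eq_zero.1 (mul_self_eq_zero.1 h5), one_smul, Units.val_one]

/-- Invariant bilinear forms of an absolutely irreducible group of symplectic isometries are multiples. -/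
theorem bilin_unique {N : Subgroup (GL ι F)} (hN : N ≤ Sp) (hsc : ScalarCommutant N) {b : V → V → F}
    (hb : Cfsg.Geo.IsBilinearForm b)
    (hfix : ∀ x ∈ N, ∀ u v, b ((x : Mat) *ᵥ u) ((x : Mat) *ᵥ v) = b u v) :
    ∃ c : F, ∀ u v, b u v = c * Cfsg.sympForm 2 F u v := by
  classical
  have hJ : IsUnit (Matrix.J (Fin 2) F).det := Matrix.isUnit_det_J (Fin 2) F
  have hs := IsSesq.of_bilinear hb
  obtain ⟨M, hbM⟩ : ∃ M : Mat, ∀ u v, b u v = Cfsg.sympForm 2 F u (M *ᵥ v) :=
    ⟨(Matrix.J (Fin 2) F)⁻¹ * gram b, fun u v => by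
      show _ = u ⬝ᵥ (Matrix.J (Fin 2) F *ᵥ (_ *ᵥ v))
      rw [hs.eq_gram, Matrix.mulVec_mulVec, ← mul_assoc, Matrix.mul_nonsing_inv _ hJ, one_mul]
      rfl⟩
  obtain ⟨c, hc⟩ := hsc M fun x hx => eq_of_form_right fun u v => by
    obtain ⟨u, rfl⟩ : ∃ u', (x : Mat) *ᵥ u' = u := ⟨_, TransvMax.mulVec_inv_mulVec x u⟩
    rw [← Matrix.mulVec_mulVec, ← Matrix.mulVec_mulVec, ← hbM, hfix x hx, hbM, mem_sp.1 (hN hx)]
  exact ⟨c, fun u v => by rw [hbM, hc, Matrix.smul_mulVec, Matrix.one_mulVec, f_smul_right]⟩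

theorem subfield_case {H N : Subgroup (GL ι F)} (hH : Cfsg.Geo.IsMaximalIn Sp H) (hNH : N ≤ H)
    (hNn : ∀ g ∈ H, ∀ x ∈ N, g * x * g⁻¹ ∈ N) (hsc : ScalarCommutant N) {F₀ : Subfield F} (hF₀ : F₀ ≠ ⊤)
    (hreal : Cfsg.Geo.RealisableOver F₀ (Cfsg.Geo.matrixSet N)) : Out H := by
  classical
  have hNS : N ≤ Sp := hNH.trans hH.1.le
  obtain ⟨B, hB⟩ := hreal
  obtain ⟨F₁, r, h01, hr, hcard, hne⟩ := PrimeDim.exists_prime_index F₀ hF₀
  set P : GL ι F := B⁻¹ with hP
  set A : Mat := (P : Mat)ᵀ * Matrix.J (Fin 2) F * (P : Mat) with hA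
  have hAf : ∀ u v : V, Cfsg.sympForm 2 F ((P : Mat) *ᵥ u) ((P : Mat) *ᵥ v) = u ⬝ᵥ (A *ᵥ v) := by
    intro u v
    show ((P : Mat) *ᵥ u) ⬝ᵥ (Matrix.J (Fin 2) F *ᵥ ((P : Mat) *ᵥ v)) = _
    rw [hA, ← Matrix.mulVec_mulVec, ← Matrix.mulVec_mulVec, Matrix.dotProduct_mulVec u (P : Mat)ᵀ,
      Matrix.vecMul_transpose]
  obtain ⟨i, j, hij⟩ : ∃ i j, A i j ≠ 0 := by
    by_contra hc
    push Not at hc
    obtain ⟨x, hx⟩ := f_nondeg (v := (P : Mat) *ᵥ Pi.single (Sum.inl 0) 1) fun e => by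
      have := congrArg (((P⁻¹ : GL ι F) : Mat) *ᵥ ·) e
      simp only [TransvMax.inv_mulVec_mulVec, Matrix.mulVec_zero] at this
      simpa using congrFun this (Sum.inl 0)
    obtain ⟨u, rfl⟩ : ∃ u, (P : Mat) *ᵥ u = x := ⟨_, TransvMax.mulVec_inv_mulVec P x⟩
    rw [hAf] at hx
    exact hx (by simp [Matrix.mulVec, dotProduct, hc])
  obtain ⟨l, hl⟩ : ∃ l : F →ₗ[F₁] F₁, l (A i j) ≠ 0 := by
    by_contra hc
    push Not at hc
    exact hij ((Module.forall_dual_apply_eq_zero_iff F₁ _).1 hc)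
  set L : Mat := A.map fun a => ((l a : F₁) : F) with hL
  have hl' : ∀ (s : F₁) (a : F), ((l ((s : F) * a) : F₁) : F) = (s : F) * ((l a : F₁) : F) := fun s a => by
    rw [show (s : F) * a = s • a from rfl, map_smul, smul_eq_mul, Subfield.coe_mul]
  -- the invariant bilinear form of the image
  obtain ⟨c, hc⟩ := bilin_unique hNS hsc
    (b := fun u v => (((P⁻¹ : GL ι F) : Mat) *ᵥ u) ⬝ᵥ (L *ᵥ (((P⁻¹ : GL ι F) : Mat) *ᵥ v)))
    ⟨fun x y v => by simp [Matrix.mulVec_add, add_dotProduct], fun c x v => by simp [Matrix.mulVec_smul],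
      fun v x y => by simp [Matrix.mulVec_add, dotProduct_add], fun c v x => by simp [Matrix.mulVec_smul]⟩
    fun x hx u v => by
      set n : Mat := ((P⁻¹ * x * P : GL ι F) : Mat) with hn
      have hn0 : ∀ a b, n a b ∈ F₁ := fun a b => by
        have := h01 (hB _ ⟨x, hx, rfl⟩ a b)
        rw [hn, hP, inv_inv, Units.val_mul, Units.val_mul]
        exact this
      have hnA : nᵀ * A * n = A := by
        have hinv : ∀ u v : V, (n *ᵥ u) ⬝ᵥ (A *ᵥ (n *ᵥ v)) = u ⬝ᵥ (A *ᵥ v) := fun u v => by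
          rw [← hAf, ← hAf, hn]
          simp only [Units.val_mul, ← Matrix.mulVec_mulVec, TransvMax.mulVec_inv_mulVec]
          exact mem_sp.1 (hNS hx) _ _
        ext a b
        have := hinv (Pi.single a 1) (Pi.single b 1)
        rw [Matrix.mulVec_mulVec, ← Matrix.vecMul_transpose, ← Matrix.dotProduct_mulVec, Matrix.mulVec_mulVec,
          single_dotProduct, single_dotProduct, one_mul, one_mul, Matrix.mulVec_single_one,
          Matrix.mulVec_single_one, Matrix.col_apply, Matrix.col_apply, ← mul_assoc] at this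
        exact this
      have hnL : nᵀ * L * n = L := by
        ext a b
        have h1 := congrArg (fun M : Mat => ((l (M a b) : F₁) : F)) hnA
        simp only [Matrix.mul_apply, Matrix.transpose_apply, Finset.sum_mul, map_sum,
          AddSubmonoidClass.coe_finsetSum] at h1 ⊢
        rw [show L a b = ((l (A a b) : F₁) : F) from rfl, ← h1]
        refine Finset.sum_congr rfl fun p _ => Finset.sum_congr rfl fun q _ => ?_
        have e : n q a * A q p * n p b =
            (((⟨_, hn0 q a⟩ : F₁) * ⟨_, hn0 p b⟩ : F₁) : F) * A q p := by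
          simp only [Subfield.coe_mul]; ring
        rw [e, hl']
        show n q a * ((l (A q p) : F₁) : F) * n p b = n q a * n p b * _
        ring
      have e1 : ∀ w : V, ((P⁻¹ : GL ι F) : Mat) *ᵥ ((x : Mat) *ᵥ w) = n *ᵥ (((P⁻¹ : GL ι F) : Mat) *ᵥ w) := by
        intro w
        rw [hn, Matrix.mulVec_mulVec, Matrix.mulVec_mulVec, ← Units.val_mul, ← Units.val_mul]
        congr 2
        group
      have key : ∀ a b : V, (n *ᵥ a) ⬝ᵥ (L *ᵥ (n *ᵥ b)) = a ⬝ᵥ (L *ᵥ b) := fun a b => by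
        rw [Matrix.mulVec_mulVec, ← Matrix.vecMul_transpose, ← Matrix.dotProduct_mulVec, Matrix.mulVec_mulVec,
          ← mul_assoc, hnL]
      rw [e1, e1]
      exact key _ _
  have hcA : ∀ a b, c * A a b = L a b := by
    intro a b
    have h1 := hc ((P : Mat) *ᵥ Pi.single a 1) ((P : Mat) *ᵥ Pi.single b 1)
    rw [TransvMax.inv_mulVec_mulVec, TransvMax.inv_mulVec_mulVec, hAf, single_dotProduct, single_dotProduct, one_mul,
      one_mul, Matrix.mulVec_single_one, Matrix.mulVec_single_one, Matrix.col_apply, Matrix.col_apply] at h1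
    exact h1.symm
  have hc0 : c ≠ 0 := fun e => hl (Subtype.ext (by
    have h1 := hcA i j
    rw [e, zero_mul] at h1
    exact h1.symm))
  refine Or.inr (Or.inr (Or.inr (Or.inl ⟨F₁, r, P, c, hr, hcard, hc0, fun u v hu hv => ?_,
    eq_inf_of_le hH (fun g hg => ?_) (subfield_not_le hne P)⟩)))
  · rw [hAf, dotProduct, Finset.mul_sum]
    refine F₁.sum_mem fun a _ => ?_
    rw [Matrix.mulVec, dotProduct, Finset.mul_sum, Finset.mul_sum]
    refine F₁.sum_mem fun b _ => ?_
    rw [show c * (u a * (A a b * v b)) = u a * (c * A a b) * v b by ring, hcA]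
    exact F₁.mul_mem (F₁.mul_mem (hu a) (l (A a b)).2) (hv b)
  · exact mem_subfieldSubgroup_of_normalises hsc F₁ (fun s hs a b => h01 (hB s hs a b)) (hNn g hg)

/-- Every maximal subgroup is in the list. -/
theorem main (h2 : (2 : F) = 0) (h4 : 4 ≤ Fintype.card F) {H : Subgroup (GL ι F)}
    (hH : Cfsg.Geo.IsMaximalIn Sp H) : Out H := by
  classical
  by_cases hirr : Irr4 H
  swap
  · exact reducible_case hH hirr
  have hHne : H ≠ ⊥ := by
    intro e
    set u : V := Pi.single (Sum.inl 0) 1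
    have hu : u ≠ 0 := fun h => by simpa [u] using congrFun h (Sum.inl 0)
    rcases hirr (Submodule.span F {u}) (fun g hg w hw => by
      rw [e, Subgroup.mem_bot] at hg; subst hg; simpa using hw) with h | h
    · exact hu (by simpa using h)
    · have h1 := finrank_span_singleton (K := F) hu
      rw [h, finrank_top, finrank_V] at h1
      omega
  let Good : ℕ → Prop := fun n => ∃ N : Subgroup (GL ι F), Nat.card N = n ∧ N ≤ H ∧
    (∀ g ∈ H, ∀ x ∈ N, g * x * g⁻¹ ∈ N) ∧ N ≠ ⊥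
  have hex : ∃ n, Good n :=
    ⟨_, H, rfl, le_rfl, fun g hg x hx => H.mul_mem (H.mul_mem hg hx) (H.inv_mem hg), hHne⟩
  obtain ⟨N, hNcard, hNH, hNn, hN1⟩ := Nat.find_spec hex
  have hmin : ∀ R : Subgroup (GL ι F), R ≤ N → (∀ g ∈ H, ∀ x ∈ R, g * x * g⁻¹ ∈ R) → R = ⊥ ∨ R = N :=
    fun R hR hRn => or_iff_not_imp_left.2 fun hR0 => Subgroup.eq_of_le_of_card_ge hR
      (by rw [hNcard]; exact Nat.find_min' hex ⟨R, rfl, hR.trans hNH, hRn, hR0⟩)
  by_cases hne : NoEig N
  swap
  · unfold NoEig at hne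
    push Not at hne
    obtain ⟨w, hw, heig⟩ := hne
    exact eigen_case h2 h4 hH hirr hNH hNn hN1 hw heig
  by_cases hNi : Irr4 N
  swap
  · exact planes_normal_case h2 h4 hH hirr hNH hNn hne hNi
  rcases commutant_case h2 h4 hH hNH hNn hNi with hsc | h
  swap
  · exact h
  have hNS : N ≤ Sp := hNH.trans hH.1.le
  by_cases hQ : ∃ Q : V → F, PolQ Q ∧ ∀ x ∈ N, ∀ v, Q ((x : Mat) *ᵥ v) = Q v
  · obtain ⟨Q, hQ, hi⟩ := hQ
    exact quad_of_normal h2 h4 hH hNS hNn (no_fixed_of_noEig hne) hQ hi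
  by_cases hreal : ∃ F₀ : Subfield F, F₀ ≠ ⊤ ∧ Cfsg.Geo.RealisableOver F₀ (Cfsg.Geo.matrixSet N)
  · obtain ⟨F₀, hF₀, h⟩ := hreal
    exact subfield_case hH hNH hNn hsc hF₀ h
  have hnab : ¬ ∀ x ∈ N, ∀ y ∈ N, x * y = y * x := by
    intro hab
    refine hN1 (eq_bot_iff.2 fun x hx => ?_)
    rw [Subgroup.mem_bot]
    obtain ⟨c, hc⟩ := hsc (x : Mat) fun g hg => by rw [← Units.val_mul, ← Units.val_mul, hab x hx g hg]
    refine scalars_inf_sp h2 ?_ (hNS hx)
    have hc0 : c ≠ 0 := fun e => x.ne_zero (by rw [hc, e, zero_smul])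
    exact (Cfsg.Geo.mem_scalars_iff x).2 ⟨Units.mk0 c hc0, hc⟩
  have hperf : ⁅N, N⁆ = N := by
    refine (hmin _ (Subgroup.commutator_le.2 fun a ha c hc =>
      N.mul_mem (N.mul_mem (N.mul_mem ha hc) (N.inv_mem ha)) (N.inv_mem hc)) fun g hg x hx => ?_).resolve_left
      fun e => hnab fun x hx y hy => ?_
    · have h1 : g * x * g⁻¹ ∈ ⁅N, N⁆.map (MulAut.conj g).toMonoidHom := ⟨x, hx, rfl⟩
      rw [Subgroup.map_commutator] at h1
      have hle : N.map (MulAut.conj g).toMonoidHom ≤ N := by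
        rintro _ ⟨t, ht, rfl⟩
        exact hNn g hg t ht
      exact Subgroup.commutator_mono hle hle h1
    · have h1 : ⁅x, y⁆ ∈ ⁅N, N⁆ := Subgroup.commutator_mem_commutator hx hy
      rw [e, Subgroup.mem_bot, commutatorElement_eq_one_iff_mul_comm] at h1
      exact h1
  have hZ : (Cfsg.Geo.scalars ι F).subgroupOf N = ⊥ := eq_bot_iff.2 fun x hx =>
    Subgroup.mem_bot.2 (Subtype.ext (scalars_inf_sp h2 hx (hNS x.2)))
  set q := QuotientGroup.mk' ((Cfsg.Geo.scalars ι F).subgroupOf N) with hq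
  have hqi : Function.Injective q := (MonoidHom.ker_eq_bot_iff q).1 (by rw [hq, QuotientGroup.ker_mk', hZ])
  have hqs : Function.Surjective q := QuotientGroup.mk'_surjective _
  refine Or.inr (Or.inr (Or.inr (Or.inr (Or.inr ⟨N, ⟨hNH, hNn, hperf, ?_, ?_, ?_, ?_,
    fun F₀ hF₀ h => hreal ⟨F₀, hF₀, h⟩⟩, ?_, ?_⟩))))
  · haveI : Nontrivial N := (Subgroup.nontrivial_iff_ne_bot N).2 hN1
    haveI : Nontrivial (↥N ⧸ (Cfsg.Geo.scalars ι F).subgroupOf N) := hqi.nontrivial
    refine ⟨fun R hR => ?_⟩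
    have hRn := hR.comap q
    set R' := (R.comap q).map N.subtype with hR'
    by_cases h0 : R' = ⊥
    · left
      rw [hR', Subgroup.map_eq_bot_iff_of_injective _ N.subtype_injective] at h0
      rw [← Subgroup.map_comap_eq_self_of_surjective hqs R, h0, Subgroup.map_bot]
    · right
      by_contra hRt
      have hR'N : R' ≤ N := by rintro _ ⟨z, -, rfl⟩; exact z.2
      refine hQ (product_quad h2 hH.1.le hNH hNn hNi hsc hperf hnab hmin (T := R') hR'N
        (fun g hg x hx => ?_) h0 fun e => hRt ?_)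
      · obtain ⟨z, hz, rfl⟩ := hx
        exact ⟨⟨g, hg⟩ * z * ⟨g, hg⟩⁻¹, hRn.conj_mem z hz _, rfl⟩
      · refine eq_top_iff.2 fun z _ => ?_
        obtain ⟨y, rfl⟩ := hqs z
        obtain ⟨y', hy', hyy⟩ := e.ge y.2
        rwa [← N.subtype_injective (a₁ := y') (a₂ := y) hyy]
  · intro hc
    refine hnab fun x hx y hy => congrArg Subtype.val (hqi (a₁ := (⟨x, hx⟩ : N) * ⟨y, hy⟩) (a₂ := ⟨y, hy⟩ * ⟨x, hx⟩) ?_)
    rw [map_mul, map_mul]
    exact hc.is_comm.comm _ _
  · intro h hh hcent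
    obtain ⟨c, hc⟩ := hsc (h : Mat) fun x hx => by
      have h1 := scalars_inf_sp h2 (hcent x hx) (hH.1.le (H.mul_mem (H.mul_mem (H.mul_mem hh (hNH hx))
        (H.inv_mem hh)) (H.inv_mem (hNH hx))))
      have h3 : h * x = x * h := by
        calc h * x = (h * x * h⁻¹ * x⁻¹) * (x * h) := by group
          _ = x * h := by rw [h1, one_mul]
      rw [← Units.val_mul, ← Units.val_mul, h3]
    exact (Cfsg.Geo.mem_scalars_iff h).2 ⟨Units.mk0 c fun e => h.ne_zero (by rw [hc, e, zero_smul]), hc⟩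
  · refine ⟨fun W hW => hNi W fun g hg w hw => ?_, fun M hM => hsc M fun g hg => hM _ ⟨g, hg, rfl⟩⟩
    have h1 := hW _ ⟨g, hg, rfl⟩ (Submodule.mem_map_of_mem hw)
    rwa [Matrix.toLin'_apply] at h1
  · rintro ⟨Q, hQn, hfix⟩
    have hfix' : ∀ x ∈ N, ∀ v, Q ((x : Mat) *ᵥ v) = Q v := fun x hx => hfix _ ⟨x, hx, rfl⟩
    obtain ⟨c, hc⟩ := bilin_unique hNS hsc hQn.polar_bilinear fun x hx u v => by
      simp only [QuadraticMap.polar, ← Matrix.mulVec_add, hfix' x hx]
    have hc0 : c ≠ 0 := by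
      intro e
      obtain ⟨⟨x, hx⟩, -⟩ := hQn.nondegenerate (Pi.single (Sum.inl 0) 1) fun e0 => by
        simpa using congrFun e0 (Sum.inl 0)
      exact hx (by rw [hc, e, zero_mul])
    refine hQ ⟨fun v => c⁻¹ * Q v, ⟨fun a v => ?_, fun u v => ?_⟩, fun x hx v => ?_⟩
    · show c⁻¹ * Q (a • v) = a ^ 2 * (c⁻¹ * Q v)
      rw [hQn.smul]; ring
    · show c⁻¹ * Q (u + v) = c⁻¹ * Q u + c⁻¹ * Q v + _
      have h1 := hc u v
      rw [QuadraticMap.polar] at h1
      field_simp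
      linear_combination h1
    · show c⁻¹ * Q ((x : Mat) *ᵥ v) = c⁻¹ * Q v
      rw [hfix' x hx]
  · rintro ⟨σ, b, hb, hfix⟩
    exact hreal (realisable_of_two_forms hb f_isSymp.bilinear f_isSymp.nondegenerate hsc hfix
      (by rintro _ ⟨x, hx, rfl⟩; exact mem_sp.1 (hNS hx)))

end Cfsg.Agent.SpFourEven
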