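import Cfsg.Agent.Lib.TransvMax.QuadOver

/-!
The orthogonal group inside the symplectic group, characteristic two, dimension at least four.
-/

set_option autoImplicit false

namespace Cfsg.Agent.SpFourEven

open Cfsg.Agent Cfsg.Agent.TransvMax

variable {F : Type*} [Field F] {V : Type*} [AddCommGroup V] [Module F V] [FiniteDimensional F V]
  {B : LinearMap.BilinForm F V} {Q : QuadraticForm F V}

/-- The common setting: characteristic two, all elements are squares, dimension at least four. -/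
structure QuadFour (B : LinearMap.BilinForm F V) (Q : QuadraticForm F V) : Prop where
  char : CharP F 2
  squares : ∀ a : F, ∃ b : F, b * b = a
  alt : LinearMap.IsAlt B
  nondeg : LinearMap.Nondegenerate B
  pol : ∀ x y, QuadraticMap.polar Q x y = B x y
  dim : 4 ≤ Module.finrank F V

theorem QuadFour.exists_adjust (S : QuadFour B Q) {z₀ a : V} (h : B z₀ a ≠ 0) (α : F) :
    ∃ z, B z a = B z₀ a ∧ Q z = α := by
  have h' : B a z₀ ≠ 0 := by rw [FormsLib.alt_swap S.alt z₀ a]; exact neg_ne_zero.mpr h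
  let pr : V → V := fun x => x - (B x a / B z₀ a) • z₀ - (B x z₀ / B a z₀) • a
  have hpa : ∀ x, B (pr x) a = 0 := fun x => by
    simp [pr, S.alt a, h]
  have hpz : ∀ x, B (pr x) z₀ = 0 := fun x => by
    simp [pr, S.alt z₀, h']
  obtain ⟨p, hp, hp', hp0⟩ : ∃ p, B p a = 0 ∧ B p z₀ = 0 ∧ Q p ≠ 0 := by
    by_contra hc
    push Not at hc
    have hQ : ∀ x, Q (pr x) = 0 := fun x => hc _ (hpa x) (hpz x)
    have hzero : ∀ x, pr x = 0 := fun x => by
      refine S.nondeg.1 _ fun y => ?_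
      have h1 : B (pr x) (pr y) = 0 := by
        have hs : Q (pr x + pr y) = 0 := hc _ (by simp [hpa x, hpa y]) (by simp [hpz x, hpz y])
        rw [← S.pol, QuadraticMap.polar, hs, hQ, hQ, sub_zero, sub_zero]
      rw [show pr y = y - (B y a / B z₀ a) • z₀ - (B y z₀ / B a z₀) • a from rfl, map_sub, map_sub,
        map_smul, map_smul, hpa x, hpz x, smul_zero, smul_zero, sub_zero, sub_zero] at h1
      exact h1
    have htop : Submodule.span F (Set.range ![z₀, a]) = ⊤ := by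
      rw [eq_top_iff]
      intro x _
      have hx : x = (B x a / B z₀ a) • z₀ + (B x z₀ / B a z₀) • a := by
        have := hzero x
        simp only [pr, sub_sub, sub_eq_zero] at this
        exact this
      rw [hx]
      exact Submodule.add_mem _ (Submodule.smul_mem _ _ (Submodule.subset_span ⟨0, rfl⟩))
        (Submodule.smul_mem _ _ (Submodule.subset_span ⟨1, rfl⟩))
    have h1 := finrank_range_le_card (R := F) ![z₀, a]
    rw [Set.finrank, htop, finrank_top, Fintype.card_fin] at h1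
    have := S.dim
    omega
  obtain ⟨t, ht⟩ := S.squares ((α - Q z₀) / Q p)
  refine ⟨z₀ + t • p, ?_, ?_⟩
  · simp [hp]
  · rw [FormsLib.quad_add, QuadraticMap.map_smul, QuadraticMap.polar_smul_right,
      QuadraticMap.polar_comm, S.pol, hp', smul_eq_mul, smul_eq_mul, ht, mul_zero, add_zero,
      div_mul_cancel₀ _ hp0]
    ring

theorem QuadFour.exists_value (S : QuadFour B Q) {u : V} (hu : u ≠ 0) (α : F) :
    ∃ z, B z u ≠ 0 ∧ Q z = α := by
  obtain ⟨x, hx⟩ : ∃ x, B x u ≠ 0 := by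
    by_contra hc
    push Not at hc
    exact hu (S.nondeg.2 u hc)
  obtain ⟨z, h1, h2⟩ := S.exists_adjust hx α
  exact ⟨z, h1 ▸ hx, h2⟩

theorem QuadFour.exists_singular_pair (S : QuadFour B Q) {u u' : V} (hu : u ≠ 0) (hu' : u' ≠ 0)
    (h : Q u = 0) (huu : B u u' = 0) : ∃ z, B z u ≠ 0 ∧ B z u' ≠ 0 ∧ Q z = 0 := by
  obtain ⟨x, hx⟩ : ∃ x, B.flip u x ≠ 0 := by
    by_contra hc
    push Not at hc
    exact hu (S.nondeg.2 u hc)
  obtain ⟨y, hy⟩ : ∃ y, B.flip u' y ≠ 0 := by
    by_contra hc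
    push Not at hc
    exact hu' (S.nondeg.2 u' hc)
  obtain ⟨z₀, h1, h2⟩ := FormsLib.exists_ne_zero_pair hx hy
  have h1' : B z₀ u ≠ 0 := h1
  refine ⟨z₀ + (-(Q z₀) / B z₀ u) • u, ?_, ?_, ?_⟩
  · simpa [S.alt u] using h1
  · simpa [huu] using h2
  · rw [FormsLib.quad_add, QuadraticMap.map_smul, QuadraticMap.polar_smul_right, S.pol, h, smul_eq_mul,
      smul_eq_mul, mul_zero, add_zero, div_mul_cancel₀ _ h1', add_neg_cancel]

/-- The orthogonal group is transitive on non-zero singular vectors. -/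
theorem QuadFour.exists_map_singular (S : QuadFour B Q) {u u' : V} (hu : u ≠ 0) (hu' : u' ≠ 0)
    (h : Q u = 0) (h' : Q u' = 0) : ∃ g ∈ FormsLib.oGroup Q, g u = u' := by
  have := S.char
  have step : ∀ a b : V, Q a = 0 → Q b = 0 → B a b ≠ 0 → ∃ g ∈ FormsLib.oGroup Q, g a = b := by
    intro a b ha hb hab
    refine ⟨FormsLib.tau S.alt (a + b) (B a b)⁻¹, tau_mem_oGroup S.alt S.pol ?_, ?_⟩
    · rw [FormsLib.quad_add, ha, hb, S.pol, zero_add, zero_add, inv_mul_cancel₀ hab]
    · rw [FormsLib.tau_apply, map_add, S.alt a, zero_add, inv_mul_cancel₀ hab, one_smul, ← add_assoc,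
        ← two_smul F a, CharTwo.two_eq_zero, zero_smul, zero_add]
  by_cases huu : B u u' = 0
  swap
  · exact step u u' h h' huu
  obtain ⟨z, hz, hz', hzQ⟩ := S.exists_singular_pair hu hu' h huu
  obtain ⟨g, hg, hgu⟩ := step u z h hzQ (by
    rw [FormsLib.alt_swap S.alt z u]; exact neg_ne_zero.mpr hz)
  obtain ⟨g', hg', hgz⟩ := step z u' hzQ h' hz'
  exact ⟨g' * g, mul_mem hg' hg, by rw [LinearEquiv.mul_apply, hgu, hgz]⟩

/-- A proper overgroup of the orthogonal group in the isometry group contains all transvections. -/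
theorem QuadFour.tauGroup_le_of_over (S : QuadFour B Q) {K : Subgroup (V ≃ₗ[F] V)}
    (hOK : FormsLib.oGroup Q ≤ K) (hK : K ≤ FormsLib.isoGroup B) {g : V ≃ₗ[F] V} (hgK : g ∈ K)
    (hg : g ∉ FormsLib.oGroup Q) : FormsLib.tauGroup S.alt ≤ K := by
  have := S.char
  let P : V → F → Prop := fun w c => FormsLib.tau S.alt w c ∈ K
  have hconj : ∀ (h : V ≃ₗ[F] V), h ∈ K → ∀ w c, P w c → P (h w) c := fun h hh w c hw => by
    show FormsLib.tau S.alt (h w) c ∈ K
    rw [← FormsLib.tau_conj S.alt (hK hh) w c]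
    exact K.mul_mem (K.mul_mem hh hw) (K.inv_mem hh)
  have hPH : ∀ w c, c * Q w = 1 → P w c := fun w c h => hOK (tau_mem_oGroup S.alt S.pol h)
  obtain ⟨a, c, ha0, hc, hac, hPa⟩ : ∃ a c, a ≠ 0 ∧ c ≠ 0 ∧ c * Q a ≠ 1 ∧ P a c := by
    obtain ⟨h, hh, v, hv, hne⟩ : ∃ h ∈ K, ∃ v, Q v ≠ 0 ∧ Q (h v) ≠ Q v := by
      obtain ⟨v, hv⟩ : ∃ v, Q (g v) ≠ Q v := by
        by_contra hcon
        push Not at hcon
        exact hg hcon
      by_cases h0 : Q v = 0
      · refine ⟨g⁻¹, K.inv_mem hgK, g v, by rwa [h0] at hv, ?_⟩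
        show Q (g.symm (g v)) ≠ _
        rw [LinearEquiv.symm_apply_apply]
        exact hv.symm
      · exact ⟨g, hgK, v, h0, hv⟩
    refine ⟨h v, (Q v)⁻¹, fun e => hv ?_, inv_ne_zero hv, fun e => hne ?_, hconj h hh v _ (hPH v _ (inv_mul_cancel₀ hv))⟩
    · rw [(LinearEquiv.map_eq_zero_iff h).1 e, QuadraticMap.map_zero]
    field_simp at e
    exact e
  obtain ⟨u, c', hu, hQu, hc', hPu⟩ : ∃ u c', u ≠ 0 ∧ Q u = 0 ∧ c' ≠ 0 ∧ P u c' := by
    by_cases ha : Q a = 0
    · exact ⟨a, c, ha0, ha, hc, hPa⟩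
    · have hd : c * c * Q a + c ≠ 0 := fun e => hac <| by
        have h1 : c * (c * Q a + 1) = 0 := by linear_combination e
        exact CharTwo.add_eq_zero.mp ((mul_eq_zero.mp h1).resolve_left hc)
      obtain ⟨z₀, hz₀⟩ : ∃ z₀, B.flip a z₀ ≠ 0 := by
        by_contra hcon
        push Not at hcon
        exact ha (by rw [S.nondeg.2 a hcon, QuadraticMap.map_zero])
      obtain ⟨w, hw, hwQ⟩ := S.exists_adjust (z₀ := (B z₀ a)⁻¹ • z₀) (a := a)
        (by rw [map_smul, LinearMap.smul_apply, smul_eq_mul, inv_mul_cancel₀ (by exact hz₀)]; exact one_ne_zero)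
        (c * c * Q a + c)
      rw [map_smul, LinearMap.smul_apply, smul_eq_mul, inv_mul_cancel₀ (by exact hz₀)] at hw
      have hwne : w ≠ 0 := fun e => hd (by rw [← hwQ, e, QuadraticMap.map_zero])
      refine ⟨FormsLib.tau S.alt a c w, (Q w)⁻¹, (LinearEquiv.map_ne_zero_iff _).2 hwne, ?_, inv_ne_zero (by rwa [hwQ]),
        hconj _ hPa w _ (hPH w _ (inv_mul_cancel₀ (by rwa [hwQ])))⟩
      rw [quad_tau S.alt S.pol, hw, hwQ, one_mul, one_mul, CharTwo.add_self_eq_zero]
  have hsing : ∀ w, w ≠ 0 → Q w = 0 → ∀ e, P w e := by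
    intro w hw hQw e
    obtain ⟨s, hs⟩ := S.squares (e / c')
    by_cases hs0 : s = 0
    · have he : e = 0 := by
        rw [hs0, mul_zero] at hs
        exact (div_eq_zero_iff.mp hs.symm).resolve_right hc'
      show FormsLib.tau S.alt w e ∈ K
      rw [he, FormsLib.tau_zero]
      exact K.one_mem
    obtain ⟨h, hh, hhu⟩ := S.exists_map_singular hu (smul_ne_zero hs0 hw) hQu
      (by rw [QuadraticMap.map_smul, hQw, smul_zero])
    have h1 := hconj h (hOK hh) u c' hPu
    rw [hhu] at h1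
    show FormsLib.tau S.alt w e ∈ K
    have h2 : FormsLib.tau S.alt (s • w) c' ∈ K := h1
    rwa [FormsLib.tau_smul, hs, div_mul_cancel₀ _ hc'] at h2
  refine (Subgroup.closure_le _).2 ?_
  rintro _ ⟨b, e, rfl⟩
  by_cases hb : b = 0
  · have : FormsLib.tau S.alt b e = 1 := by ext v; simp [hb]
    rw [this]
    exact K.one_mem
  by_cases hQb : Q b = 0
  · exact hsing b hb hQb e
  obtain ⟨s, hs, hQs⟩ := S.exists_value hb 0
  have hs0 : s ≠ 0 := fun e => hs (by simp [e])
  have hbs : B b s ≠ 0 := by rw [FormsLib.alt_swap S.alt s b]; exact neg_ne_zero.mpr hs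
  set c₁ := Q b / (B b s * B b s) with hc₁
  have hT : FormsLib.tau S.alt s c₁ ∈ K := hsing s hs0 hQs c₁
  have hb' : Q (FormsLib.tau S.alt s c₁ b) = 0 := by
    rw [quad_tau S.alt S.pol, hQs, mul_zero, zero_add, hc₁, mul_div_cancel₀ _ (mul_ne_zero hbs hbs),
      CharTwo.add_self_eq_zero]
  have h1 := hconj _ (K.inv_mem hT) _ _ (hsing _ ((LinearEquiv.map_ne_zero_iff _).2 hb) hb' e)
  rwa [show (FormsLib.tau S.alt s c₁)⁻¹ = (FormsLib.tau S.alt s c₁).symm from rfl,
    LinearEquiv.symm_apply_apply] at h1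

/-- The orthogonal group is a proper subgroup of the isometry group. -/
theorem QuadFour.exists_not_mem (S : QuadFour B Q) :
    ∃ g ∈ FormsLib.isoGroup B, g ∉ FormsLib.oGroup Q := by
  have := S.char
  obtain ⟨x, hx⟩ : ∃ x : V, x ≠ 0 := by
    have : Nontrivial V := Module.nontrivial_of_finrank_pos (R := F) (by have := S.dim; omega)
    exact exists_ne 0
  obtain ⟨u, hu, hQu⟩ := S.exists_value hx 0
  refine ⟨_, FormsLib.tau_mem S.alt u 1, fun h => ?_⟩
  have h1 := h x
  rw [quad_tau S.alt S.pol, hQu, FormsLib.alt_swap S.alt u x] at h1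
  simp [hu] at h1

end Cfsg.Agent.SpFourEven
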