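import Cfsg.Agent.Lib.TransvMax.SubfieldRat
import Cfsg.Agent.Lib.TransvMax.LagrPair
import Cfsg.Agent.Lib.TransvMax.SympSim

/-!
Overgroups of a symplectic group over a subfield of prime index, characteristic two,
dimension at least four.
-/

set_option autoImplicit false

namespace Cfsg.Agent.SpFourEven

open scoped Matrix MatrixGroups
open Cfsg.Agent Cfsg.Agent.TransvMax

section Identities

variable {F V : Type*} [Field F] [AddCommGroup V] [Module F V] {B : LinearMap.BilinForm F V}

variable (hA : LinearMap.IsAlt B) (h2 : (2 : F) = 0)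
include h2

theorem symm₂ (hA : LinearMap.IsAlt B) (u v : V) : B u v = B v u := by
  rw [FormsLib.alt_swap hA v u]
  linear_combination (-(B v u)) * h2

theorem id_root {z a b : V} {m : F} (hza : B z a = 0) (hab : B a b = 0) (hzb : B z b = m)
    (h : B a ((m * m) • b) = 0) :
    FormsLib.tau hA z 1 * FormsLib.tau hA (z + m • a) 1 *
      (FormsLib.tau hA (z + m • b) 1 * FormsLib.tau hA (z + m • a + m • b) 1) =
      pairTau hA a ((m * m) • b) h * FormsLib.tau hA a (m * m * (m * m)) := by
  refine LinearEquiv.ext fun x => ?_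
  have e1 := symm₂ h2 hA a z
  have e2 := symm₂ h2 hA b a
  have e3 := symm₂ h2 hA b z
  simp only [LinearEquiv.mul_apply, FormsLib.tau_apply, pairTau_apply, map_add, map_smul,
    LinearMap.add_apply, LinearMap.smul_apply, hA z, hA a, hA b, hza, hab, hzb, e1, e2, e3, smul_eq_mul]
  match_scalars <;> (try ring_nf) <;> simp [h2, show (3 : F) = 1 by linear_combination h2,
    show (4 : F) = 0 by linear_combination 2 * h2, show (5 : F) = 1 by linear_combination 2 * h2, show (6 : F) = 0 by linear_combination 3 * h2]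

theorem id_swap {a b : V} {σ : F} (hab : B a b = 0) (h : B a (σ • b) = 0) (h' : B b (σ • a) = 0) :
    pairTau hA a (σ • b) h * FormsLib.tau hA a (σ * σ) *
      (pairTau hA b (σ • a) h' * FormsLib.tau hA b (σ * σ)) =
      FormsLib.tau hA a (σ * σ) * FormsLib.tau hA b (σ * σ) := by
  refine LinearEquiv.ext fun x => ?_
  have e2 := symm₂ h2 hA b a
  simp only [LinearEquiv.mul_apply, FormsLib.tau_apply, pairTau_apply, map_add, map_smul,
    LinearMap.add_apply, LinearMap.smul_apply, hA a, hA b, hab, e2, smul_eq_mul]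
  match_scalars <;> (try ring_nf) <;> simp [h2, show (3 : F) = 1 by linear_combination h2,
    show (4 : F) = 0 by linear_combination 2 * h2]

theorem id_short {a b : V} {σ : F} (hab : B a b = 0) (h : B a (σ • b) = 0)
    (h' : B a ((σ * σ + σ) • b) = 0) :
    FormsLib.tau hA (a + b) (σ * σ) * FormsLib.tau hA a (σ * σ) *
      (FormsLib.tau hA a (σ * σ) * FormsLib.tau hA b (σ * σ) *
        (pairTau hA a (σ • b) h * FormsLib.tau hA a (σ * σ))) =
      pairTau hA a ((σ * σ + σ) • b) h' := by
  refine LinearEquiv.ext fun x => ?_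
  have e2 := symm₂ h2 hA b a
  simp only [LinearEquiv.mul_apply, FormsLib.tau_apply, pairTau_apply, map_add, map_smul,
    LinearMap.add_apply, LinearMap.smul_apply, hA a, hA b, hab, e2, smul_eq_mul]
  match_scalars <;> (try ring_nf) <;> simp [h2, show (3 : F) = 1 by linear_combination h2,
    show (4 : F) = 0 by linear_combination 2 * h2]

theorem id_sum {a b : V} {c : F} (hab : B a b = 0) (h : B a (c • b) = 0) :
    FormsLib.tau hA (a + b) c * FormsLib.tau hA a c * FormsLib.tau hA b c = pairTau hA a (c • b) h := by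
  refine LinearEquiv.ext fun x => ?_
  have e2 := symm₂ h2 hA b a
  simp only [LinearEquiv.mul_apply, FormsLib.tau_apply, pairTau_apply, map_add, map_smul,
    LinearMap.add_apply, LinearMap.smul_apply, hA a, hA b, hab, e2, smul_eq_mul]
  match_scalars <;> (try ring_nf) <;> simp [h2, show (3 : F) = 1 by linear_combination h2,
    show (4 : F) = 0 by linear_combination 2 * h2]

theorem id_comm {a b w : V} {s t : F} (hab : B a b = 0) (haw : B a w = 0) (hbw : B b w = 1)
    (h : B a (s • b) = 0) (h' : B a (s • (b + t • w)) = 0) (h'' : B a ((s * t) • w) = 0) :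
    pairTau hA a (s • b) h * pairTau hA a (s • (b + t • w)) h' =
      pairTau hA a ((s * t) • w) h'' * FormsLib.tau hA a (s * s * t) := by
  refine LinearEquiv.ext fun x => ?_
  have e2 := symm₂ h2 hA b a
  have e3 := symm₂ h2 hA w a
  have e4 := symm₂ h2 hA w b
  simp only [LinearEquiv.mul_apply, FormsLib.tau_apply, pairTau_apply, map_add, map_smul,
    LinearMap.add_apply, LinearMap.smul_apply, hA a, hA b, hA w, hab, haw, hbw, e2, e3, e4, smul_eq_mul]
  match_scalars <;> (try ring_nf) <;> simp [h2, show (3 : F) = 1 by linear_combination h2,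
    show (4 : F) = 0 by linear_combination 2 * h2]

theorem id_square {a w y : V} {σ e : F} (haw : B a w = 0) (hay : B a y = 0) (hwy : B w y = 1)
    (h : B a (σ • w) = 0) (h' : B a (σ • (w + y)) = 0) (h'' : B a (σ • y) = 0) :
    pairTau hA a (σ • w) h * FormsLib.tau hA a e *
      (pairTau hA a (σ • (w + y)) h' * FormsLib.tau hA a e) =
      pairTau hA a (σ • y) h'' * FormsLib.tau hA a (σ * σ) := by
  refine LinearEquiv.ext fun x => ?_
  have e2 := symm₂ h2 hA w a
  have e3 := symm₂ h2 hA y a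
  have e4 := symm₂ h2 hA y w
  simp only [LinearEquiv.mul_apply, FormsLib.tau_apply, pairTau_apply, map_add, map_smul,
    LinearMap.add_apply, LinearMap.smul_apply, hA a, hA w, hA y, haw, hay, hwy, e2, e3, e4, smul_eq_mul]
  match_scalars <;> (try ring_nf) <;> simp [h2, show (3 : F) = 1 by linear_combination h2,
    show (4 : F) = 0 by linear_combination 2 * h2]

end Identities

/-- A symplectic form taking values in a subfield on a rational structure. -/
structure RatFour {ι : Type} [Fintype ι] [DecidableEq ι] {F : Type*} [Field F]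
    (B : LinearMap.BilinForm F (ι → F)) (F₀ : Subfield F) (P : GL ι F) : Prop where
  alt : LinearMap.IsAlt B
  nondeg : LinearMap.Nondegenerate B
  rat : ∀ u v : ι → F₀, B (ratEmb F₀ P u) (ratEmb F₀ P v) ∈ F₀
  dim : 4 ≤ Fintype.card ι
  two : (2 : F) = 0

namespace RatFour

variable {ι : Type} [Fintype ι] [DecidableEq ι] {F : Type*} [Field F]
  {B : LinearMap.BilinForm F (ι → F)} {F₀ : Subfield F} {P : GL ι F} (S : RatFour B F₀ P)

include S

/-- The form on coordinates. -/
def form₀ : (ι → F₀) → (ι → F₀) → F₀ := fun u v => ⟨_, S.rat u v⟩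

theorem coe_form₀ (u v : ι → F₀) : (S.form₀ u v : F) = B (ratEmb F₀ P u) (ratEmb F₀ P v) := rfl

theorem eq_zero_of_forall {x : ι → F} (h : ∀ y : ι → F₀, B x (ratEmb F₀ P y) = 0) : x = 0 := by
  refine S.nondeg.1 x fun v => ?_
  have hv : v = ∑ j, (((P⁻¹ : GL ι F) : Matrix ι ι F) *ᵥ v) j • ratEmb F₀ P (Pi.single j 1) := by
    conv_lhs => rw [← mulVec_inv_mulVec P v, pi_eq_sum_univ' (((P⁻¹ : GL ι F) : Matrix ι ι F) *ᵥ v),
      Matrix.mulVec_sum]
    refine Finset.sum_congr rfl fun j _ => ?_
    rw [Matrix.mulVec_smul, ratEmb_single]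
  rw [hv, map_sum]
  exact Finset.sum_eq_zero fun j _ => by rw [map_smul, h, smul_zero]

theorem symp : Cfsg.Geo.IsSymplecticForm S.form₀ := by
  have halt : ∀ v, S.form₀ v v = 0 := fun v => Subtype.ext (by rw [S.coe_form₀, S.alt]; rfl)
  have hswap : ∀ v w, S.form₀ v w = -S.form₀ w v := fun v w => Subtype.ext (by
    push_cast [S.coe_form₀]
    rw [FormsLib.alt_swap S.alt (ratEmb F₀ P w)])
  refine ⟨⟨fun x y v => Subtype.ext ?_, fun c x v => Subtype.ext ?_, fun v x y => Subtype.ext ?_,
    fun c v x => Subtype.ext ?_⟩, hswap, halt, fun v hv => ?_⟩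
  · push_cast [S.coe_form₀]; rw [ratEmb_add, map_add, LinearMap.add_apply]
  · push_cast [S.coe_form₀]; rw [ratEmb_smul, map_smul, LinearMap.smul_apply, smul_eq_mul]
  · push_cast [S.coe_form₀]; rw [ratEmb_add, map_add]
  · push_cast [S.coe_form₀]; rw [ratEmb_smul, map_smul, smul_eq_mul]
  · have h : ∃ x, S.form₀ v x ≠ 0 := by
      by_contra hc
      push Not at hc
      refine hv (ratEmb_injective F₀ P ?_)
      rw [ratEmb_zero]
      exact S.eq_zero_of_forall fun y => congrArg Subtype.val (hc y)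
    obtain ⟨x, hx⟩ := h
    exact ⟨⟨x, fun e => hx (by rw [hswap, e, neg_zero])⟩, ⟨x, hx⟩⟩

/-- A non-zero vector in the kernel of a few conditions, outside a small subspace. -/
theorem exists_ker {k : ℕ} (v : Fin k → ι → F₀) (W : Submodule F₀ (ι → F₀))
    (h : Module.finrank F₀ W + k < Fintype.card ι) : ∃ z, (∀ i, S.form₀ z (v i) = 0) ∧ z ∉ W := by
  by_contra hc
  push Not at hc
  let L : (ι → F₀) →ₗ[F₀] (Fin k → F₀) := LinearMap.pi fun i => (toBil S.symp).flip (v i)
  have h1 := Submodule.finrank_mono (show LinearMap.ker L ≤ W from fun z hz => hc z fun i => congrFun hz i)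
  have h3 := LinearMap.finrank_range_add_finrank_ker L
  have h4 := Submodule.finrank_le (LinearMap.range L)
  rw [Module.finrank_fintype_fun_eq_card, Fintype.card_fin] at h4
  rw [Module.finrank_fintype_fun_eq_card] at h3
  omega

theorem exists_vals {k : ℕ} {v : Fin k → ι → F₀} (hv : LinearIndependent F₀ v) (α : Fin k → F₀) :
    ∃ x, ∀ i, S.form₀ x (v i) = α i := by
  let L : (ι → F₀) →ₗ[F₀] (Fin k → F₀) := LinearMap.pi fun i => (toBil S.symp).flip (v i)
  have hL : LinearMap.range L = ⊤ := by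
    by_contra hne
    obtain ⟨ψ, hψ0, hψ⟩ := Submodule.exists_le_ker_of_lt_top _ (lt_top_iff_ne_top.2 hne)
    have hsum : ∑ i, ψ (Pi.single i 1) • v i = 0 := by
      refine eq_of_toBil_right S.symp fun x => ?_
      have h1 : ψ (L x) = 0 := hψ ⟨x, rfl⟩
      rw [pi_eq_sum_univ' (L x), map_sum] at h1
      rw [← toBil_apply S.symp, ← toBil_apply S.symp, map_zero, ← h1, map_sum]
      refine Finset.sum_congr rfl fun i _ => ?_
      rw [map_smul, map_smul, smul_eq_mul, smul_eq_mul, mul_comm]
      rfl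
    refine hψ0 (LinearMap.ext fun y => ?_)
    rw [pi_eq_sum_univ' y, map_sum, LinearMap.zero_apply]
    refine Finset.sum_eq_zero fun i _ => ?_
    rw [map_smul, Fintype.linearIndependent_iff.1 hv _ hsum i, smul_zero]
  obtain ⟨x, hx⟩ := LinearMap.range_eq_top.1 hL α
  exact ⟨x, fun i => congrFun hx i⟩

theorem li_cons {u v : ι → F₀} (hv : v ≠ 0) (hu : u ∉ Submodule.span F₀ {v}) :
    LinearIndependent F₀ ![u, v] :=
  linearIndependent_finCons.2 ⟨by simp [linearIndependent_unique_iff, hv], by simpa using hu⟩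

set_option maxHeartbeats 1600000 in
theorem tauGroup_le_of_over [Fintype F] {r : ℕ} (hr : r.Prime)
    (hcard : Fintype.card F = Nat.card F₀ ^ r)
    {K : Subgroup ((ι → F) ≃ₗ[F] (ι → F))} (hK : K ≤ FormsLib.isoGroup B)
    (hstab : ∀ h ∈ FormsLib.isoGroup B, (∀ y, ∃ y', h (ratEmb F₀ P y) = ratEmb F₀ P y') → h ∈ K)
    {g : (ι → F) ≃ₗ[F] (ι → F)} (hgK : g ∈ K)
    (hg : ¬ ∀ y : ι → F₀, y ≠ 0 → ∃ c : F, c ≠ 0 ∧ ∃ y', c • g (ratEmb F₀ P y) = ratEmb F₀ P y') :
    FormsLib.tauGroup S.alt ≤ K := by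
  classical
  haveI := Fintype.ofFinite F₀
  have h2 : (2 : F) = 0 := S.two
  haveI : CharP F 2 := CharTwo.of_one_ne_zero_of_two_eq_zero one_ne_zero h2
  have h20 : (2 : F₀) = 0 := Subtype.ext h2
  haveI : CharP F₀ 2 := CharTwo.of_one_ne_zero_of_two_eq_zero one_ne_zero h20
  have sqrt₀ : ∀ e : F₀, ∃ d : F₀, e = d * d := fun e => FiniteField.isSquare_of_char_two (ringChar.eq F₀ 2) e
  have hsqmem : ∀ x : F, x * x ∈ F₀ → x ∈ F₀ := by
    intro x hx
    obtain ⟨d, hd⟩ := sqrt₀ ⟨_, hx⟩
    have hd' : x * x = (d : F) * d := congrArg Subtype.val hd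
    have : (x - d) * (x - d) = 0 := by linear_combination hd' + ((d : F) * d - x * d) * h2
    have := sub_eq_zero.1 (mul_self_eq_zero.1 this)
    rw [this]; exact d.2
  let R := ratEmb F₀ P
  have hadd : ∀ u v, R (u + v) = R u + R v := ratEmb_add F₀ P
  have hsmul : ∀ (c : F₀) u, R (c • u) = (c : F) • R u := ratEmb_smul F₀ P
  have hzero : R 0 = 0 := ratEmb_zero F₀ P
  have hsub : ∀ u v, R (u - v) = R u - R v := fun u v => by
    rw [eq_sub_iff_add_eq, ← hadd, sub_add_cancel]
  have hval : ∀ u v, B (R u) (R v) = (S.form₀ u v : F) := fun u v => rfl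
  have hperp : ∀ {u v}, S.form₀ u v = 0 → B (R u) (R v) = 0 := fun {u v} h => by rw [hval, h]; rfl
  have hone' : ∀ {u v}, S.form₀ u v = 1 → B (R u) (R v) = 1 := fun {u v} h => by rw [hval, h]; rfl
  have hperpm : ∀ {u v} (s : F), S.form₀ u v = 0 → B (R u) (s • R v) = 0 := fun {u v} s h => by
    rw [map_smul, hperp h, smul_zero]
  have hsw : ∀ u v, B u v = -B v u := fun u v => FormsLib.alt_swap S.alt v u
  have hsym : ∀ u v, B u v = B v u := fun u v => symm₂ h2 S.alt u v
  have hfswap : ∀ u v, S.form₀ u v = -S.form₀ v u := S.symp.skew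
  have hfsw0 : ∀ {u v}, S.form₀ u v = 0 → S.form₀ v u = 0 := fun {u v} h => by
    rw [hfswap, h, neg_zero]
  have hfsym : ∀ u v, S.form₀ u v = S.form₀ v u := fun u v => Subtype.ext (hsym (R u) (R v))
  have hli1 : ∀ {u : ι → F₀}, u ≠ 0 → LinearIndependent F₀ ![u] := fun h => by
    simp [linearIndependent_unique_iff, h]
  have hconj : ∀ h ∈ K, ∀ v e, FormsLib.tau S.alt v e ∈ K → FormsLib.tau S.alt (h v) e ∈ K :=
    fun h hh v e hv => by
      rw [← FormsLib.tau_conj S.alt (hK hh) v e]
      exact K.mul_mem (K.mul_mem hh hv) (K.inv_mem hh)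
  have hpair : ∀ {u v} (h : B (R u) (R v) = 0), pairTau S.alt (R u) (R v) h ∈ K := fun {u v} h =>
    hstab _ (pairTau_mem _ _ _ _) fun y => ⟨y + S.form₀ y u • v + S.form₀ y v • u, by
      rw [pairTau_apply, hval, hval, ← hsmul, ← hsmul, ← hadd, ← hadd]⟩
  have htau : ∀ u (s : F₀), FormsLib.tau S.alt (R u) s ∈ K := fun u s =>
    hstab _ (FormsLib.tau_mem _ _ _) fun y => ⟨y + (s * S.form₀ y u) • u, by
      show _ = R _
      rw [hadd, hsmul, FormsLib.tau_apply, hval]; rfl⟩
  have htau1 : ∀ u, FormsLib.tau S.alt (R u) 1 ∈ K := fun u => htau u 1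
  have hlift : ∀ γ ∈ FormsLib.tauGroup (toBil_alt S.symp), ∃ G ∈ K, ∀ y, G (R y) = R (γ y) := by
    intro γ hγ
    induction hγ using Subgroup.closure_induction with
    | mem x hx =>
      obtain ⟨v, e, rfl⟩ := hx
      refine ⟨_, htau v e, fun y => ?_⟩
      rw [FormsLib.tau_apply, FormsLib.tau_apply, hadd, hsmul, hval]
      rfl
    | one => exact ⟨1, K.one_mem, fun y => rfl⟩
    | mul x y _ _ hx hy =>
      obtain ⟨G₁, hG₁, h1⟩ := hx
      obtain ⟨G₂, hG₂, h2⟩ := hy
      exact ⟨G₁ * G₂, K.mul_mem hG₁ hG₂, fun z => by rw [LinearEquiv.mul_apply, h2, h1]; rfl⟩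
    | inv x _ hx =>
      obtain ⟨G₁, hG₁, h1⟩ := hx
      refine ⟨G₁⁻¹, K.inv_mem hG₁, fun z => ?_⟩
      have h2 := h1 (x⁻¹ z)
      rw [← LinearEquiv.mul_apply, mul_inv_cancel] at h2
      exact (LinearEquiv.symm_apply_eq G₁).2 h2.symm
  -- transport along pairs
  let Ind : (ι → F₀) → (ι → F₀) → Prop := fun p q => ∀ e f : F₀, e • p + f • q = 0 → e = 0 ∧ f = 0
  have hind : ∀ {p q}, p ≠ 0 → q ∉ Submodule.span F₀ {p} → Ind p q := fun {p q} hp hq =>
    LinearIndependent.pair_iff.1 (LinearIndependent.pair_symm_iff.1 (S.li_cons hp hq))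
  have hindsymm : ∀ {p q}, Ind p q → Ind q p := fun {p q} h e f hef =>
    (h f e (by rw [add_comm]; exact hef)).symm
  have hindne : ∀ {p q}, Ind p q → p ≠ 0 := fun {p q} h hp => one_ne_zero ((h 1 0 (by simp [hp])).1)
  have hdual : ∀ {p q}, S.form₀ p q = 0 → Ind p q → ∃ w, S.form₀ p w = 0 ∧ S.form₀ q w = 1 ∧ Ind p w := by
    intro p q hpq hli
    obtain ⟨w, hw⟩ := S.exists_vals (v := ![p, q]) (LinearIndependent.pair_iff.2 hli) ![0, 1]
    have hw0 : S.form₀ w p = 0 := hw 0
    have hw1 : S.form₀ w q = 1 := hw 1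
    refine ⟨w, hfsw0 hw0, (hfsym _ _).trans hw1, fun e f hef => ?_⟩
    have h1 := congrArg (toBil S.symp q) hef
    simp only [map_add, map_smul, map_zero, toBil_apply, hfsw0 hpq, (hfsym q w).trans hw1, smul_eq_mul,
      mul_zero, zero_add, mul_one] at h1
    rw [h1, zero_smul, add_zero] at hef
    exact ⟨(smul_eq_zero.1 hef).resolve_right (hindne hli), h1⟩
  have htrans : ∀ {u y p q}, S.form₀ u y = 0 → Ind u y → S.form₀ p q = 0 → Ind p q →
      ∃ G ∈ K, G (R u) = R p ∧ G (R y) = R q := by
    intro u y p q huy hli hpq hli'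
    obtain ⟨γ, hγ, hγu, hγy⟩ := exists_isometry_map_pair S.symp hli hli' (by rw [huy, hpq])
    obtain ⟨G, hG, hGy⟩ := hlift γ hγ
    exact ⟨G, hG, by rw [hGy, hγu], by rw [hGy, hγy]⟩
  have hcong : ∀ {G}, (hG' : G ∈ K) → ∀ a b (h : B a b = 0) e, pairTau S.alt a b h * FormsLib.tau S.alt a e ∈ K →
      pairTau S.alt (G a) (G b) ((hK hG' a b).trans h) * FormsLib.tau S.alt (G a) e ∈ K := by
    intro G hG a b h e hX
    have h1 := K.mul_mem (K.mul_mem hG hX) (K.inv_mem hG)
    rw [show G * (pairTau S.alt a b h * FormsLib.tau S.alt a e) * G⁻¹ =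
      (G * pairTau S.alt a b h * G⁻¹) * (G * FormsLib.tau S.alt a e * G⁻¹) by group,
      pairTau_conj S.alt (hK hG), FormsLib.tau_conj S.alt (hK hG)] at h1
    exact h1
  have hmoveX : ∀ {u y p q} (σ e : F) (huy : S.form₀ u y = 0), Ind u y → ∀ (hpq : S.form₀ p q = 0), Ind p q →
      pairTau S.alt (R u) (σ • R y) (hperpm σ huy) * FormsLib.tau S.alt (R u) e ∈ K →
      pairTau S.alt (R p) (σ • R q) (hperpm σ hpq) * FormsLib.tau S.alt (R p) e ∈ K := by
    intro u y p q σ e huy hli hpq hli' hX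
    obtain ⟨G, hG, hu, hy⟩ := htrans huy hli hpq hli'
    have h1 := hcong hG _ _ _ _ hX
    simpa [map_smul, hu, hy] using h1
  -- an irrational centre
  obtain ⟨y₀, hy₀, hirr⟩ : ∃ y : ι → F₀, y ≠ 0 ∧ ∀ c : F, c ≠ 0 → ∀ y', c • g (R y) ≠ R y' := by
    push Not at hg
    exact hg
  set w := g (R y₀) with hw
  have hwC : FormsLib.tau S.alt w 1 ∈ K := hconj g hgK _ _ (htau1 y₀)
  -- an irrational centre orthogonal to a rational vector
  obtain ⟨z, hzC, hzirr, u₀, hu₀, hzu₀⟩ : ∃ z, FormsLib.tau S.alt z 1 ∈ K ∧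
      (∀ c : F, c ≠ 0 → ∀ y', c • z ≠ R y') ∧ ∃ u : ι → F₀, u ≠ 0 ∧ B z (R u) = 0 := by
    by_cases hker : ∃ u : ι → F₀, u ≠ 0 ∧ B w (R u) = 0
    · exact ⟨w, hwC, hirr, hker⟩
    push Not at hker
    let μ : (ι → F₀) → F := fun y => B w (R y)
    have hμ : ∀ y, y ≠ 0 → μ y ≠ 0 := hker
    obtain ⟨i⟩ : Nonempty ι := Fintype.card_pos_iff.mp (by have := S.dim; omega)
    set y : ι → F₀ := Pi.single i 1
    have hy : y ≠ 0 := fun e => by simpa [y] using congrFun e i
    set p := μ y
    have hp : p ≠ 0 := hμ y hy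
    obtain ⟨a, hay, han, hbad⟩ : ∃ a, S.form₀ a y = 0 ∧ a ∉ Submodule.span F₀ {y} ∧
        (1 + p * μ a) / (p * p) ∉ F₀ := by
      by_contra hcon
      push Not at hcon
      obtain ⟨a, ha, han⟩ := S.exists_ker ![y] (Submodule.span F₀ {y}) (by
        rw [finrank_span_singleton hy]; have := S.dim; omega)
      have hli : LinearIndependent F₀ ![a, y] := S.li_cons hy han
      obtain ⟨a', ha', ha'n⟩ := S.exists_ker ![y] (Submodule.span F₀ (Set.range ![a, y])) (by
        rw [finrank_span_eq_card hli, Fintype.card_fin]; have := S.dim; omega)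
      have h1 := hcon a (ha 0) han
      have h1' := hcon a' (ha' 0) fun h => ha'n (Submodule.span_mono (by
        rintro x rfl; exact ⟨1, rfl⟩) h)
      have hq : (μ a - μ a') / p ∈ F₀ := by
        have : (μ a - μ a') / p = (1 + p * μ a) / (p * p) - (1 + p * μ a') / (p * p) := by
          field_simp; ring
        rw [this]
        exact sub_mem h1 h1'
      have h0 : a - a' - (⟨_, hq⟩ : F₀) • y ≠ 0 := fun e => ha'n (by
        rw [show a' = a - (⟨_, hq⟩ : F₀) • y by linear_combination (norm := module) (-(1 : F₀)) • e]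
        exact Submodule.sub_mem _ (Submodule.subset_span ⟨0, rfl⟩)
          (Submodule.smul_mem _ _ (Submodule.subset_span ⟨1, rfl⟩)))
      refine hμ _ h0 ?_
      show B w (R _) = 0
      rw [hsub, hsub, hsmul, map_sub, map_sub, map_smul, smul_eq_mul]
      show μ a - μ a' - (μ a - μ a') / p * p = 0
      rw [div_mul_cancel₀ _ hp, sub_self]
    set q := μ a
    have hli : LinearIndependent F₀ ![a, y] := S.li_cons hy han
    have hay' : B (R a) (R y) = 0 := hperp hay
    set h := pairTau S.alt (R a) (R y) hay'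
    have hhK : h ∈ K := hpair hay'
    have hhw : h w = w + q • R y + p • R a := by rw [pairTau_apply]
    have hz := hconj _ (K.mul_mem (hconj h hhK _ _ hwC) hwC) _ _ (htau1 y)
    have hzval : (FormsLib.tau S.alt (h w) 1 * FormsLib.tau S.alt w 1) (R y) =
        (1 + p * q) • R y + (p * p) • R a := by
      rw [LinearEquiv.mul_apply, FormsLib.tau_apply, FormsLib.tau_apply, hhw]
      simp only [map_add, map_smul, LinearMap.add_apply, LinearMap.smul_apply, S.alt w, S.alt (R y),
        hsym (R y) (R a), hay', hsym (R y) w, show B w (R y) = p from rfl, show B w (R a) = q from rfl,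
        smul_eq_mul]
      match_scalars <;> (try ring_nf) <;> simp [h2, show (3 : F) = 1 by linear_combination h2,
        show (4 : F) = 0 by linear_combination 2 * h2]
    rw [hzval] at hz
    refine ⟨_, hz, fun c hc y' he => hbad ?_, y, hy, ?_⟩
    · obtain ⟨P₁, hP₁⟩ := S.exists_vals hli ![0, 1]
      obtain ⟨P₂, hP₂⟩ := S.exists_vals hli ![1, 0]
      have e1 := congrArg (B (R P₁)) he
      have e2 := congrArg (B (R P₂)) he
      simp only [map_smul, map_add, hval, show S.form₀ P₁ a = 0 from hP₁ 0,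
        show S.form₀ P₁ y = 1 from hP₁ 1, show S.form₀ P₂ a = 1 from hP₂ 0,
        show S.form₀ P₂ y = 0 from hP₂ 1, ZeroMemClass.coe_zero, OneMemClass.coe_one, smul_eq_mul,
        mul_zero, add_zero, zero_add, mul_one] at e1 e2
      have : (1 + p * q) / (p * p) = (S.form₀ P₁ y' : F) / (S.form₀ P₂ y' : F) := by
        rw [← e1, ← e2, mul_div_mul_left _ _ hc]
      rw [this]
      exact div_mem (SetLike.coe_mem _) (SetLike.coe_mem _)
    · simp [map_add, map_smul, S.alt (R y), hay']
  let μ : (ι → F₀) → F := fun y => B z (R y)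
  -- a kernel vector with an irrational value on its perpendicular
  obtain ⟨u, hu0, hzu, y, hyu, hm⟩ : ∃ u, u ≠ 0 ∧ B z (R u) = 0 ∧
      ∃ y, S.form₀ y u = 0 ∧ μ y ∉ F₀ := by
    by_cases hgood : ∃ y, S.form₀ y u₀ = 0 ∧ μ y ∉ F₀
    · exact ⟨u₀, hu₀, hzu₀, hgood⟩
    push Not at hgood
    obtain ⟨u₁, hu₁⟩ := S.exists_vals (hli1 hu₀) ![1]
    have hrest : ∀ y, S.form₀ (y - S.form₀ y u₀ • u₁) u₀ = 0 := fun y => by
      rw [← toBil_apply S.symp, map_sub, map_smul, LinearMap.sub_apply, LinearMap.smul_apply,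
        toBil_apply, toBil_apply, show S.form₀ u₁ u₀ = 1 from hu₁ 0, smul_eq_mul, mul_one, sub_self]
    let φ : (ι → F₀) →ₗ[F₀] F₀ :=
      { toFun := fun y => ⟨_, hgood _ (hrest y)⟩
        map_add' := fun a b => Subtype.ext (by
          simp only [μ, S.symp.bilinear.add_left, AddMemClass.coe_add, hsub, hsmul, hadd,
            map_sub, map_smul, map_add, smul_eq_mul]
          ring)
        map_smul' := fun c a => Subtype.ext (by
          simp only [μ, S.symp.bilinear.smul_left, RingHom.id_apply, smul_eq_mul, MulMemClass.coe_mul,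
            hsub, hsmul, map_sub, map_smul]
          ring) }
    have hμeq : ∀ y, μ y = (φ y : F) + (S.form₀ y u₀ : F) * μ u₁ := fun y => by
      simp only [φ, μ, LinearMap.coe_mk, AddHom.coe_mk, hsub, hsmul, map_sub, map_smul, smul_eq_mul]
      ring
    have hκ : μ u₁ ∉ F₀ := by
      intro hκ
      let ψ : (ι → F₀) → F₀ := fun y => φ y + S.form₀ y u₀ * ⟨_, hκ⟩
      have hψ : ∀ y, μ y = (ψ y : F) := hμeq
      obtain ⟨q₀, hq₀⟩ := exists_formRow S.symp fun j => ψ (Pi.single j 1)
      have hrow : ∀ j, μ (Pi.single j 1) = B (R q₀) (R (Pi.single j 1)) := fun j => by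
        rw [hψ, hsym, hval]
        refine congrArg Subtype.val ?_
        show ψ (Pi.single j 1) = _
        rw [← formRow_dot S.symp, ← hq₀]
        simp
      refine hzirr 1 one_ne_zero q₀ ?_
      rw [one_smul, ← sub_eq_zero]
      refine S.eq_zero_of_forall fun y => ?_
      rw [pi_eq_sum_univ' y]
      have hsum : ∀ (s : Finset ι), R (∑ j ∈ s, y j • Pi.single j (1 : F₀)) =
          ∑ j ∈ s, (y j : F) • R (Pi.single j 1) := by
        intro s
        induction s using Finset.induction_on with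
        | empty => simp [hzero]
        | insert a s has ih => rw [Finset.sum_insert has, Finset.sum_insert has, hadd, hsmul, ih]
      rw [show ratEmb F₀ P (∑ j, y j • Pi.single j (1 : F₀)) = _ from hsum Finset.univ, map_sum]
      refine Finset.sum_eq_zero fun j _ => ?_
      rw [map_smul, map_sub, LinearMap.sub_apply, ← hrow j, sub_self, smul_zero]
    obtain ⟨v, hvφ, hvu, hvn⟩ : ∃ v, φ v = 0 ∧ S.form₀ v u₀ = 0 ∧ v ∉ Submodule.span F₀ {u₀} := by
      by_contra hcon
      push Not at hcon
      let L : (ι → F₀) →ₗ[F₀] (Fin 2 → F₀) := LinearMap.pi ![φ, (toBil S.symp).flip u₀]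
      have h1 := Submodule.finrank_mono (show LinearMap.ker L ≤ Submodule.span F₀ {u₀} from
        fun v hv => hcon v (congrFun hv 0) (congrFun hv 1))
      have h3 := LinearMap.finrank_range_add_finrank_ker L
      have h4 := Submodule.finrank_le (LinearMap.range L)
      rw [Module.finrank_fintype_fun_eq_card, Fintype.card_fin] at h4
      rw [Module.finrank_fintype_fun_eq_card] at h3
      rw [finrank_span_singleton hu₀] at h1
      have := S.dim
      omega
    have hv0 : v ≠ 0 := fun e => hvn (by rw [e]; exact Submodule.zero_mem _)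
    obtain ⟨y, hy⟩ := S.exists_vals (S.li_cons hu₀ hvn) ![0, 1]
    refine ⟨v, hv0, ?_, y, hy 0, fun h => hκ ?_⟩
    · show μ v = 0
      rw [hμeq, hvφ, hvu]
      simp
    · rw [hμeq y, show S.form₀ y u₀ = 1 from hy 1, OneMemClass.coe_one, one_mul] at h
      simpa using sub_mem h (φ y).2
  have hyn : y ∉ Submodule.span F₀ {u} := fun h => by
    obtain ⟨s, rfl⟩ := Submodule.mem_span_singleton.1 h
    refine hm ?_
    rw [show μ (s • u) = 0 by simp only [μ, hsmul, map_smul, hzu, smul_zero]]
    exact F₀.zero_mem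
  set m := μ y
  have huy := hfsw0 hyu
  have hliuy : Ind u y := hind hu0 hyn
  -- first root element
  set σ := m * m with hσdef
  have hσ : σ ∉ F₀ := fun h => hm (hsqmem m h)
  have hX₀ : pairTau S.alt (R u) (σ • R y) (hperpm σ huy) * FormsLib.tau S.alt (R u) (σ * σ) ∈ K := by
    have hEz : pairTau S.alt (R u) (R y) (hperp huy) z = z + m • R u := by
      rw [pairTau_apply, hzu, zero_smul, add_zero]
    have hz₁ := hconj _ (hpair (hperp huy)) _ _ hzC
    rw [hEz] at hz₁
    have hh := htau1 y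
    have e1 : FormsLib.tau S.alt (R y) 1 z = z + m • R y := by
      rw [FormsLib.tau_apply, one_mul]
    have e2 : FormsLib.tau S.alt (R y) 1 (z + m • R u) = z + m • R u + m • R y := by
      rw [map_add, map_smul, e1, FormsLib.tau_apply, hperp huy, mul_zero, zero_smul, add_zero]
      abel
    have h1 := K.mul_mem (K.mul_mem hzC hz₁)
      (K.mul_mem (e1 ▸ hconj _ hh _ _ hzC) (e2 ▸ hconj _ hh _ _ hz₁))
    rwa [id_root S.alt h2 hzu (hperp huy) (show B z (R y) = m from rfl) (hperpm σ huy)] at h1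
  have hX : ∀ {p q} (hpq : S.form₀ p q = 0), Ind p q →
      pairTau S.alt (R p) (σ • R q) (hperpm σ hpq) * FormsLib.tau S.alt (R p) (σ * σ) ∈ K :=
    fun {p q} hpq hli => hmoveX σ _ huy hliuy hpq hli hX₀
  have hJ : ∀ {p q}, S.form₀ p q = 0 → Ind p q →
      FormsLib.tau S.alt (R p) (σ * σ) * FormsLib.tau S.alt (R q) (σ * σ) ∈ K := by
    intro p q hpq hli
    have h1 := K.mul_mem (hX hpq hli) (hX (hfsw0 hpq) (hindsymm hli))
    rwa [id_swap S.alt h2 (hperp hpq)] at h1
  have hJ' : ∀ {p q r}, S.form₀ p r = 0 → Ind p r → S.form₀ q r = 0 → Ind q r →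
      FormsLib.tau S.alt (R p) (σ * σ) * FormsLib.tau S.alt (R q) (σ * σ) ∈ K := by
    intro p q r hp hlp hq hlq
    have h1 := K.mul_mem (hJ hp hlp) (K.inv_mem (hJ hq hlq))
    convert h1 using 1
    rw [mul_inv_rev, FormsLib.tau_inv, FormsLib.tau_inv, CharTwo.neg_eq]
    generalize σ * σ = t
    rw [mul_assoc (FormsLib.tau S.alt (R p) t), ← mul_assoc (FormsLib.tau S.alt (R r) t) (FormsLib.tau S.alt (R r) t),
      FormsLib.tau_mul, CharTwo.add_self_eq_zero, FormsLib.tau_zero, one_mul]
  have hpartner : ∀ {u : ι → F₀}, u ≠ 0 → ∃ y, S.form₀ u y = 0 ∧ Ind u y := by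
    intro u hu
    obtain ⟨y, hy, hyn⟩ := S.exists_ker ![u] (Submodule.span F₀ {u}) (by
      rw [finrank_span_singleton hu]; have := S.dim; omega)
    exact ⟨y, hfsw0 (hy 0), hind hu hyn⟩
  let Short : F → Prop := fun s => ∀ {p q} (hpq : S.form₀ p q = 0), Ind p q →
    pairTau S.alt (R p) (s • R q) (hperpm s hpq) ∈ K
  let Long : F → Prop := fun c => ∀ v, FormsLib.tau S.alt (R v) c ∈ K
  have hprod : ∀ {s t}, Short s → Long t → ∀ {u y w} (_ : S.form₀ u y = 0) (_ : Ind u y)
      (huw : S.form₀ u w = 0) (_ : S.form₀ y w = 1),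
      pairTau S.alt (R u) ((s * t) • R w) (hperpm _ huw) * FormsLib.tau S.alt (R u) (s * s * t) ∈ K := by
    intro s t hs ht u y w huy hli huw hyw
    have h0 := hs huy hli
    have hG := ht w
    have h1 := K.mul_mem h0 (K.mul_mem (K.mul_mem hG h0) (K.inv_mem hG))
    rw [pairTau_conj S.alt (hK hG)] at h1
    have e1 : FormsLib.tau S.alt (R w) t (R u) = R u := by
      rw [FormsLib.tau_apply, hperp huw, mul_zero, zero_smul, add_zero]
    have e2 : FormsLib.tau S.alt (R w) t (s • R y) = s • (R y + t • R w) := by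
      rw [map_smul, FormsLib.tau_apply, hone' hyw, mul_one]
    simp only [e1, e2] at h1
    rwa [id_comm S.alt h2 (hperp huy) (hperp huw) (hone' hyw)] at h1
  have hlongOne : Long 1 := htau1
  have hsqlong : ∀ {s}, Short s → Long (s * s) := by
    intro s hs v
    rcases eq_or_ne v 0 with rfl | hv
    · rw [hzero, show FormsLib.tau S.alt (0 : ι → F) (s * s) = 1 by ext x; simp]
      exact K.one_mem
    obtain ⟨y, hvy, hli⟩ := hpartner hv
    obtain ⟨w, hvw, hyw, hliw⟩ := hdual hvy hli
    have h1 := hprod hs hlongOne hvy hli hvw hyw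
    simp only [mul_one] at h1
    exact (K.mul_mem_cancel_left (hs hvw hliw)).1 h1
  -- a long root element with an irrational coefficient
  obtain ⟨v₁, hv₁, lam, hlam, hlam'⟩ : ∃ v : ι → F₀, v ≠ 0 ∧ ∃ lam : F, lam ∉ F₀ ∧
      FormsLib.tau S.alt (R v) lam ∈ K := by
    by_cases hF2 : ∃ d : F₀, d ≠ 0 ∧ d ≠ 1
    · obtain ⟨d, hd0, hd1⟩ := hF2
      have hli' : Ind (d • u) y := fun e f hef => by
        have h1 := hliuy (e * d) f (by rw [← smul_smul]; exact hef)
        exact ⟨(mul_eq_zero.1 h1.1).resolve_right hd0, h1.2⟩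
      have h1 := hJ' (q := d • u) huy hliuy (by rw [S.symp.bilinear.smul_left, huy, mul_zero]) hli'
      rw [hsmul, FormsLib.tau_smul, FormsLib.tau_mul] at h1
      refine ⟨u, hu0, _, fun h => hσ (hsqmem σ ?_), h1⟩
      have hne : (1 : F) + (d : F) * d ≠ 0 := fun e => by
        have : ((d : F) - 1) * ((d : F) - 1) = 0 := by linear_combination e - (d : F) * h2
        exact hd1 (Subtype.ext (sub_eq_zero.1 (mul_self_eq_zero.1 this)))
      have : σ * σ = (σ * σ + (d : F) * d * (σ * σ)) / (1 + (d : F) * d) := by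
        rw [eq_div_iff hne]; ring
      rw [this]
      exact div_mem h (add_mem F₀.one_mem (mul_mem d.2 d.2))
    push Not at hF2
    have h01 : ∀ x : F, x ∈ F₀ → x = 0 ∨ x = 1 := fun x hx => by
      rcases eq_or_ne (⟨x, hx⟩ : F₀) 0 with h | h
      · exact Or.inl (congrArg Subtype.val h)
      · exact Or.inr (congrArg Subtype.val (hF2 _ h))
    obtain ⟨w, huw, hyw, hliuw⟩ := hdual huy hliuy
    by_cases hS : σ * σ + σ = 1
    · -- the centre on a rational line
      obtain ⟨r, hr', hrn⟩ := S.exists_ker ![y, w] ⊥ (by rw [finrank_bot]; have := S.dim; omega)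
      have hr0 : r ≠ 0 := fun e => hrn (by rw [e]; exact Submodule.zero_mem _)
      have hry : S.form₀ y r = 0 := hfsw0 (hr' 0)
      have hrw : S.form₀ w r = 0 := hfsw0 (hr' 1)
      have hyr : Ind y r := fun e f hef => by
        have h1 := congrArg (toBil S.symp w) hef
        simp only [map_add, map_smul, map_zero, toBil_apply, hrw, (hfsym w y).trans hyw, smul_eq_mul,
          mul_zero, add_zero, mul_one] at h1
        rw [h1, zero_smul, zero_add] at hef
        exact ⟨h1, (smul_eq_zero.1 hef).resolve_right hr0⟩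
      have hwr : Ind w r := fun e f hef => by
        have h1 := congrArg (toBil S.symp y) hef
        simp only [map_add, map_smul, map_zero, toBil_apply, hry, hyw, smul_eq_mul,
          mul_zero, add_zero, mul_one] at h1
        rw [h1, zero_smul, zero_add] at hef
        exact ⟨h1, (smul_eq_zero.1 hef).resolve_right hr0⟩
      have h1 := hconj _ (hJ' hry hyr hrw hwr) _ _ (htau1 y)
      have hS2 : σ * σ * (σ * σ) + 1 = σ * σ := by
        linear_combination (σ * σ - σ + 1) * hS + (1 - σ) * h2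
      have e : (FormsLib.tau S.alt (R y) (σ * σ) * FormsLib.tau S.alt (R w) (σ * σ)) (R y) =
          (σ * σ) • R (y + w) := by
        simp only [LinearEquiv.mul_apply, FormsLib.tau_apply, map_add, map_smul, LinearMap.add_apply,
          LinearMap.smul_apply, S.alt (R y), hsym (R w) (R y), hone' hyw, hadd, smul_eq_mul, mul_zero,
          zero_smul, add_zero, zero_add, mul_one, smul_add]
        match_scalars <;> first | linear_combination hS2 | linear_combination -hS2 | ring
      rw [e, FormsLib.tau_smul, mul_one] at h1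
      refine ⟨y + w, fun e0 => ?_, _, fun h => hσ (hsqmem σ (hsqmem _ h)), h1⟩
      rw [add_eq_zero_iff_eq_neg] at e0
      have h := hyw
      rw [e0, ← neg_one_smul F₀ w, S.symp.bilinear.smul_left, S.symp.alternating, mul_zero] at h
      exact zero_ne_one h
    · have hρ : σ * σ + σ ∉ F₀ := fun h => by
        rcases h01 _ h with h0 | h0
        · have h' : σ * (σ + 1) = 0 := by linear_combination h0
          rcases mul_eq_zero.1 h' with h' | h'
          · exact hσ (by rw [h']; exact F₀.zero_mem)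
          · exact hσ (by rw [eq_neg_of_add_eq_zero_left h']; exact neg_mem F₀.one_mem)
        · exact hS h0
      have hP : ∀ {p q} (hpq : S.form₀ p q = 0), Ind p q →
          pairTau S.alt (R p) ((σ * σ + σ) • R q) (hperpm _ hpq) ∈ K := by
        intro p q hpq hli
        have hpp : S.form₀ (p + q) p = 0 := by
          rw [S.symp.bilinear.add_left, S.symp.alternating, hfsw0 hpq, add_zero]
        have hl : Ind (p + q) p := fun e f hef => by
          have h1 := hli (e + f) e (by rw [← hef]; module)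
          exact ⟨h1.2, by simpa [h1.2] using h1.1⟩
        have ha := hJ hpp hl
        rw [hadd] at ha
        have hb := hJ hpq hli
        have hc := hX hpq hli
        have h1 := K.mul_mem ha (K.mul_mem hb hc)
        rwa [id_short S.alt h2 (hperp hpq) (hperpm _ hpq) (hperpm _ hpq)] at h1
      exact ⟨u, hu0, _, fun h => hρ (hsqmem _ h), hsqlong (s := σ * σ + σ) hP u⟩
  have hlamL : Long lam := by
    intro v
    rcases eq_or_ne v 0 with rfl | hv
    · rw [hzero, show FormsLib.tau S.alt (0 : ι → F) lam = 1 by ext x; simp]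
      exact K.one_mem
    obtain ⟨y, hvy, hli⟩ := hpartner hv
    obtain ⟨y₁, hvy₁, hli₁⟩ := hpartner hv₁
    obtain ⟨G, hG, hu, -⟩ := htrans hvy₁ hli₁ hvy hli
    have h1 := hconj G hG _ _ hlam'
    rwa [hu] at h1
  have hL0 : ∀ x ∈ F₀, Long x := fun x hx v => htau v ⟨x, hx⟩
  have hLadd : ∀ {a b}, Long a → Long b → Long (a + b) := fun {a b} ha hb v => by
    rw [← FormsLib.tau_mul]; exact K.mul_mem (ha v) (hb v)
  have hLsmul : ∀ {a}, Long a → ∀ x ∈ F₀, Long (x * a) := by
    intro a ha x hx v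
    obtain ⟨d, hd⟩ := sqrt₀ ⟨x, hx⟩
    have hd' : x = (d : F) * d := congrArg Subtype.val hd
    have h1 := ha (d • v)
    rwa [hsmul, FormsLib.tau_smul, ← hd'] at h1
  have hshort : ∀ {c}, Long c → Short c := by
    intro c hc p q hpq hli
    have h1 := K.mul_mem (K.mul_mem (hc (p + q)) (hc p)) (hc q)
    rw [hadd] at h1
    rwa [id_sum S.alt h2 (hperp hpq) (hperpm c hpq)] at h1
  have hsqL : ∀ {c}, Long c → Long (c * c) := fun hc => hsqlong (hshort hc)
  have hLsurj : ∀ {a}, Long a → ∃ s, Long s ∧ s * s = a := by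
    intro a ha
    let f : {c : F // Long c} → {c : F // Long c} := fun c => ⟨c.1 * c.1, hsqL c.2⟩
    have hf : Function.Injective f := fun c d h => by
      have h' : c.1 * c.1 = d.1 * d.1 := congrArg Subtype.val h
      have : (c.1 - d.1) * (c.1 - d.1) = 0 := by linear_combination h' + (d.1 * d.1 - c.1 * d.1) * h2
      exact Subtype.ext (sub_eq_zero.1 (mul_self_eq_zero.1 this))
    obtain ⟨c, hc⟩ := Finite.surjective_of_injective hf ⟨a, ha⟩
    exact ⟨c.1, c.2, congrArg Subtype.val hc⟩
  have hkey : ∀ {a t}, Long a → Long t → Long ((t * t + t) * a) := by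
    intro a t ha ht
    obtain ⟨s, hs, rfl⟩ := hLsurj ha
    intro u
    rcases eq_or_ne u 0 with rfl | hu
    · rw [hzero, show FormsLib.tau S.alt (0 : ι → F) ((t * t + t) * (s * s)) = 1 by ext x; simp]
      exact K.one_mem
    obtain ⟨y, huy, hli⟩ := hpartner hu
    obtain ⟨w, huw, hyw, hliw⟩ := hdual huy hli
    have hE := hprod (hshort hs) ht huy hli huw hyw
    have hE' := hcong (htau1 y) _ _ _ _ hE
    have e1 : FormsLib.tau S.alt (R y) 1 (R u) = R u := by
      rw [FormsLib.tau_apply, hperp huy, mul_zero, zero_smul, add_zero]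
    have e2 : FormsLib.tau S.alt (R y) 1 ((s * t) • R w) = (s * t) • (R w + R y) := by
      rw [map_smul, FormsLib.tau_apply, hone' ((hfsym w y).trans hyw), mul_one, one_smul]
    simp only [e1, e2] at hE'
    have h1 := K.mul_mem hE hE'
    rw [id_square S.alt h2 (hperp huw) (hperp huy) (hone' ((hfsym w y).trans hyw)) _ _
      (hperpm (s * t) huy)] at h1
    have h2' := hmoveX (s * t) (s * s * t) huw hliw huy hli hE
    have h3 := K.mul_mem (K.inv_mem h1) h2'
    rw [mul_inv_rev, mul_assoc, inv_mul_cancel_left, FormsLib.tau_inv, FormsLib.tau_mul,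
      CharTwo.neg_eq] at h3
    rwa [show (t * t + t) * (s * s) = s * t * (s * t) + s * s * t by ring]
  have hLall : ∀ c, Long c := by
    let E : Set F := {e | ∀ a, Long a → Long (e * a)}
    by_cases hμ : lam * lam + lam ∈ F₀
    · let T : Set F := {e | ∃ a ∈ F₀, ∃ b ∈ F₀, e = a + b * lam}
      have hT := eq_univ_of_prime_degree (S := T) F₀ hr hcard
        (fun x hx => ⟨x, hx, 0, F₀.zero_mem, by ring⟩)
        (by
          rintro x ⟨a, ha, b, hb, rfl⟩ y ⟨a', ha', b', hb', rfl⟩
          exact ⟨a + a', add_mem ha ha', b + b', add_mem hb hb', by ring⟩)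
        (by
          rintro x ⟨a, ha, b, hb, rfl⟩ y ⟨a', ha', b', hb', rfl⟩
          refine ⟨a * a' + b * b' * (lam * lam + lam), add_mem (mul_mem ha ha') (mul_mem (mul_mem hb hb') hμ),
            a * b' + b * a' + b * b', add_mem (add_mem (mul_mem ha hb') (mul_mem hb ha')) (mul_mem hb hb'), ?_⟩
          linear_combination -(b * b' * lam) * h2)
        (x := lam) ⟨0, F₀.zero_mem, 1, F₀.one_mem, by ring⟩ hlam
      intro c
      obtain ⟨a, ha, b, hb, rfl⟩ := hT c
      exact hLadd (hL0 a ha) (hLsmul hlamL b hb)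
    · have hE := eq_univ_of_prime_degree (S := E) F₀ hr hcard
        (fun x hx a ha => hLsmul ha x hx)
        (fun x hx y hy a ha => by rw [add_mul]; exact hLadd (hx a ha) (hy a ha))
        (fun x hx y hy a ha => by rw [mul_assoc]; exact hx _ (hy a ha))
        (x := lam * lam + lam) (fun a ha => hkey ha hlamL) hμ
      intro c
      simpa using hE c 1 hlongOne
  have hlong : ∀ v e, FormsLib.tau S.alt (R v) e ∈ K := fun v e => hLall e v
  have hT : ∀ (s : F) p q (hpq : S.form₀ p q = 0), Ind p q →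
      ∀ h, pairTau S.alt (R p) (s • R q) h ∈ K := fun s p q hpq hli _ => hshort (hLall s) hpq hli
  -- all centres
  have hstep : ∀ v : ι → F₀, ∀ x, (∀ e, FormsLib.tau S.alt x e ∈ K) → ∀ c : F,
      ∀ e, FormsLib.tau S.alt (x + c • R v) e ∈ K := by
    intro v x hx c e
    rcases eq_or_ne v 0 with rfl | hv0
    · rw [hzero, smul_zero, add_zero]; exact hx e
    by_cases hxv : B x (R v) = 0
    · by_cases hspan : ∀ p, S.form₀ p v = 0 → B x (R p) = 0
      · -- then `x` is on the line of `v`
        obtain ⟨p₀, hp₀⟩ := S.exists_vals (hli1 hv0) ![1]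
        have hxeq : x = (-B x (R p₀)) • R v := by
          rw [← sub_eq_zero]
          refine S.eq_zero_of_forall fun p => ?_
          have hq : S.form₀ (p - S.form₀ p v • p₀) v = 0 := by
            rw [← toBil_apply S.symp, map_sub, map_smul, LinearMap.sub_apply, LinearMap.smul_apply,
              toBil_apply, toBil_apply, show S.form₀ p₀ v = 1 from hp₀ 0, smul_eq_mul, mul_one, sub_self]
          have h1 := hspan _ hq
          rw [hsub, hsmul, map_sub, map_smul, smul_eq_mul, sub_eq_zero] at h1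
          rw [map_sub, map_smul, LinearMap.sub_apply, LinearMap.smul_apply, smul_eq_mul, h1, hsw (R v),
            hval p v]
          ring
        rw [hxeq, ← add_smul, FormsLib.tau_smul]
        exact hlong v _
      · push Not at hspan
        obtain ⟨p, hpv, hp⟩ := hspan
        have hli : ∀ e f : F₀, e • v + f • p = 0 → e = 0 ∧ f = 0 := by
          intro e f hef
          have h1 := congrArg (fun z => B x (R z)) hef
          simp only [hadd, hsmul, hzero, map_add, map_smul, map_zero, hxv, smul_eq_mul, mul_zero,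
            zero_add, mul_eq_zero] at h1
          have hf' : f = 0 := Subtype.ext (h1.resolve_right hp)
          rw [hf', zero_smul, add_zero] at hef
          exact ⟨(smul_eq_zero.1 hef).resolve_right hv0, hf'⟩
        have hvp : B (R v) ((c / B x (R p)) • R p) = 0 := by
          rw [map_smul, hperp (hfsw0 hpv), smul_zero]
        have hE := hT (c / B x (R p)) v p (hfsw0 hpv) hli hvp
        have h1 := hconj _ hE x e (hx e)
        rwa [pairTau_apply, hxv, zero_smul, add_zero, map_smul, smul_eq_mul, div_mul_cancel₀ _ hp] at h1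
    · have h1 := hconj _ (hlong v (c / B x (R v))) x e (hx e)
      rwa [FormsLib.tau_apply, div_mul_cancel₀ _ hxv] at h1
  refine (Subgroup.closure_le _).2 ?_
  rintro _ ⟨v, e, rfl⟩
  have hv : v = ∑ j, (((P⁻¹ : GL ι F) : Matrix ι ι F) *ᵥ v) j • R (Pi.single j 1) := by
    conv_lhs => rw [← mulVec_inv_mulVec P v, pi_eq_sum_univ' (((P⁻¹ : GL ι F) : Matrix ι ι F) *ᵥ v),
      Matrix.mulVec_sum]
    refine Finset.sum_congr rfl fun j _ => ?_
    rw [Matrix.mulVec_smul]
    show _ = _ • ratEmb F₀ P _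
    rw [ratEmb_single]
  have hall : ∀ (s : Finset ι) (f : ι → F), ∀ e, FormsLib.tau S.alt (∑ j ∈ s, f j • R (Pi.single j 1)) e ∈ K := by
    intro s f
    induction s using Finset.induction_on with
    | empty =>
      intro e
      rw [Finset.sum_empty]
      have : FormsLib.tau S.alt (0 : ι → F) e = 1 := by ext x; simp
      rw [this]; exact K.one_mem
    | insert a s has ih =>
      rw [Finset.sum_insert has, add_comm]
      exact hstep _ _ ih _
  rw [hv]
  exact hall _ _ e


end RatFour

end Cfsg.Agent.SpFourEven
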